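import Cfsg.Agent.SuzSeven.Seven
import Cfsg.Agent.Invol.Dihedral

/-!
Involutions of a group of Suzuki-sporadic type relative to a standard involution of the second class,
and the intersection of the two involution centralisers.
-/

set_option autoImplicit false
set_option linter.style.haveILetI false
set_option maxRecDepth 100000

namespace CfsgLib.SuzSeven

open CfsgLib CfsgLib.Quad CfsgLib.SuzInvol CfsgLib.SuzThree Subgroup

variable {G : Type*} [Group G] [Finite G] {z : G} {D : Dat z} {B : Base D} {y t : G}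

omit [Finite G] in
/-- Conjugation along a product of two involutions. -/
theorem refl_conj {u v : G} (hu : u * u = 1) (hv : v * v = 1) (k : ℕ) :
    (u * v) ^ k * u * ((u * v) ^ k)⁻¹ = (u * v) ^ (2 * k) * u := by
  have h1 : u * (u * v) * u⁻¹ = (u * v)⁻¹ := by
    rw [mul_inv_rev, inv_eq_of_mul_eq_one_right hu, inv_eq_of_mul_eq_one_right hv, ← mul_assoc, hu, one_mul]
  have h2 : u * (u * v) ^ k * u⁻¹ = ((u * v) ^ k)⁻¹ := by rw [← conj_pow, h1, inv_pow]
  calc (u * v) ^ k * u * ((u * v) ^ k)⁻¹ = (u * v) ^ k * u * (u * (u * v) ^ k * u⁻¹) := by rw [h2]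
    _ = (u * v) ^ k * (u * u) * (u * v) ^ k * u⁻¹ := by group
    _ = (u * v) ^ (2 * k) * u := by
      rw [hu, mul_one, ← pow_add, two_mul, inv_eq_of_mul_eq_one_right hu]

/-- An involution among the powers of an element is the half power. -/
theorem pow_half {a j : G} (hj : j * j = 1) (hj1 : j ≠ 1) (h : j ∈ zpowers a) :
    ∃ m : ℕ, orderOf a = 2 * m ∧ j = a ^ m := by
  obtain ⟨k, rfl⟩ := (mem_powers_iff_mem_zpowers.2 h : j ∈ Submonoid.powers a)
  simp only at hj hj1 ⊢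
  rw [← pow_add] at hj
  have h2 : orderOf a ∣ 2 * k := orderOf_dvd_of_pow_eq_one (by rw [two_mul]; exact hj)
  have h3 : ¬ orderOf a ∣ k := fun e => hj1 (orderOf_dvd_iff_pow_eq_one.1 e)
  rcases Nat.even_or_odd (orderOf a) with ⟨m, hm⟩ | ho
  · refine ⟨m, by omega, ?_⟩
    have hmk : m ∣ k := Nat.dvd_of_mul_dvd_mul_left two_pos (by rwa [hm, ← two_mul] at h2)
    obtain ⟨c, rfl⟩ := hmk
    rcases Nat.even_or_odd c with ⟨d, rfl⟩ | ⟨d, rfl⟩
    · exact absurd ⟨d, by rw [hm]; ring⟩ h3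
    · rw [show m * (2 * d + 1) = orderOf a * d + m by rw [hm]; ring, pow_add, pow_mul, pow_orderOf_eq_one,
        one_pow, one_mul]
  · exact absurd ((Nat.coprime_two_right.2 ho).dvd_of_dvd_mul_left h2) h3

/-- The two possibilities for the central involution of a dihedral group. -/
theorem dih_cases {u v w : G} (hu : u * u = 1) (hv : v * v = 1) (hw : w * w = 1) (hw1 : w ≠ 1)
    (h : w ∈ zpowers (u * v)) :
    w * u = u * w ∧ w * v = v * w ∧ (IsConj u (w * u) ∨ IsConj u (w * v)) := by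
  obtain ⟨m, -, rfl⟩ := pow_half hw hw1 h
  have hinv : ((u * v) ^ m)⁻¹ = (u * v) ^ m := inv_eq_of_mul_eq_one_right hw
  have h1 : u * (u * v) * u⁻¹ = (u * v)⁻¹ := by
    rw [mul_inv_rev, inv_eq_of_mul_eq_one_right hu, inv_eq_of_mul_eq_one_right hv, ← mul_assoc, hu, one_mul]
  have h2 : v * (u * v) * v⁻¹ = (u * v)⁻¹ := by
    rw [mul_inv_rev, inv_eq_of_mul_eq_one_right hu, inv_eq_of_mul_eq_one_right hv]
    calc v * (u * v) * v = v * u * (v * v) := by group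
      _ = v * u := by rw [hv, mul_one]
  have c1 : (u * v) ^ m * u = u * (u * v) ^ m := by
    have := conj_pow (a := u) (b := u * v) (i := m)
    rw [h1, inv_pow, hinv] at this
    exact (eq_mul_inv_iff_mul_eq.1 this)
  have c2 : (u * v) ^ m * v = v * (u * v) ^ m := by
    have := conj_pow (a := v) (b := u * v) (i := m)
    rw [h2, inv_pow, hinv] at this
    exact (eq_mul_inv_iff_mul_eq.1 this)
  refine ⟨c1, c2, ?_⟩
  rcases Nat.even_or_odd m with ⟨k, hk⟩ | ⟨k, hk⟩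
  · exact Or.inl (isConj_iff.2 ⟨(u * v) ^ k, by rw [refl_conj hu hv, two_mul, ← hk]⟩)
  · refine Or.inr (isConj_iff.2 ⟨(u * v) ^ k, ?_⟩)
    rw [refl_conj hu hv, hk, pow_succ, mul_assoc _ (u * v) v, mul_assoc u v v, hv, mul_one]

/-- An involution of the extraspecial subgroup is of the first class. -/
theorem conj_of_mem_Q (B : Base D) {x : G} (hx : x ∈ D.Q) (hx2 : x * x = 1) (hx1 : x ≠ 1) : IsConj z x := by
  by_cases h0 : D.π x = 0
  · rcases (D.π_eq_zero x hx).1 h0 with e | e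
    · exact absurd e hx1
    · rw [e]
  · obtain ⟨c, -, hc⟩ := exists_conj_C D B.sQ hx (by rw [B.πs]; exact q_e0) ((D.sq_iff x hx).1 hx2)
      (by rw [B.πs]; exact base_facts.2.2.2) h0
    exact (isConj_iff.2 ⟨B.g, B.gz⟩).trans (isConj_iff.2 ⟨c, hc⟩)

variable (T : Three D y) (hS : Seed B y t)
include T hS

theorem Seed.t_sq : t * t = 1 := (hS.relations T).1

theorem Seed.t_ne : t ≠ 1 := (hS.distinct T).1

theorem Seed.t_not : ¬ IsConj z t := (hS.isFour T).cls t (hS.t_mem T) (hS.t_ne T)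

theorem Seed.tz : t * z = z * t := mem_centralizer_singleton_iff.1 hS.rep.mem_C

/-- The involutions of the centraliser of the central involution. -/
theorem Seed.class_cases {x : G} (hx : x ∈ centralizer ({z} : Set G)) (hx2 : x * x = 1) (hx1 : x ≠ 1) :
    IsConj z x ∨ ∃ c ∈ centralizer ({z} : Set G), c * t * c⁻¹ = x := by
  obtain ⟨S1⟩ := B.exists_std
  have key : ∀ {x : G}, x ∈ centralizer ({z} : Set G) → x * x = 1 → x ≠ 1 →
      IsConj z x ∨ ∃ c ∈ centralizer ({z} : Set G), c * S1.t * c⁻¹ = x := by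
    intro x hx hx2 hx1
    by_cases hxQ : x ∈ D.Q
    · exact Or.inl (conj_of_mem_Q B hxQ hx2 hx1)
    · exact (S1.classify hx hxQ hx2).imp (fun h => B.isConj_of_sing h hx2 hx1) id
  rcases key hx hx2 hx1 with h | ⟨c, hc, hce⟩
  · exact Or.inl h
  · obtain ⟨d, hd, hde⟩ := (key hS.rep.mem_C (hS.t_sq T) (hS.t_ne T)).resolve_left (hS.t_not T)
    refine Or.inr ⟨c * d⁻¹, mul_mem hc (inv_mem hd), ?_⟩
    rw [← hde, ← hce]; group

/-- Every involution is of one of the two classes. -/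
theorem Seed.two_classes {x : G} (hx2 : x * x = 1) (hx1 : x ≠ 1) : IsConj z x ∨ IsConj t x := by
  obtain ⟨u, hu⟩ := exists_conj_mem_C D hx2
  rcases hS.class_cases T hu (by rw [show u * x * u⁻¹ * (u * x * u⁻¹) = u * (x * x) * u⁻¹ by group, hx2]; group)
      (fun e => hx1 (conj_eq_one_iff.1 e)) with h | ⟨c, -, hc⟩
  · exact Or.inl (h.trans (isConj_iff.2 ⟨u, rfl⟩).symm)
  · exact Or.inr ((isConj_iff.2 ⟨c, hc⟩).trans (isConj_iff.2 ⟨u, rfl⟩).symm)

/-- The product of commuting involutions of different classes is of the second class. -/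
theorem Seed.mul_not_conj {a w : G} (ha : IsConj z a) (hw : ¬ IsConj z w) (hw2 : w * w = 1) (hw1 : w ≠ 1)
    (hc : a * w = w * a) : ¬ IsConj z (a * w) := by
  obtain ⟨g, hg⟩ := isConj_iff.1 ha
  have hgi : g⁻¹ * a * g = z := by rw [← hg]; group
  have hC : g⁻¹ * w * g ∈ centralizer ({z} : Set G) := mem_centralizer_singleton_iff.2 (by
    rw [← hgi]
    calc g⁻¹ * w * g * (g⁻¹ * a * g) = g⁻¹ * (w * a) * g := by group
      _ = g⁻¹ * (a * w) * g := by rw [hc]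
      _ = _ := by group)
  rcases hS.class_cases T hC (by rw [show g⁻¹ * w * g * (g⁻¹ * w * g) = g⁻¹ * (w * w) * g by group, hw2]; group)
      (fun e => hw1 (by rw [show w = g * (g⁻¹ * w * g) * g⁻¹ by group, e]; group)) with h | ⟨c, hc', hce⟩
  · exact absurd (h.trans (isConj_iff.2 ⟨g, by group⟩)) hw
  · intro hcon
    refine hS.z_mul_cls T (hS.t_mem T) (hS.t_ne T) (hcon.trans (isConj_iff.2 ⟨g * c, ?_⟩).symm)
    calc g * c * (z * t) * (g * c)⁻¹ = g * ((c * z) * t * c⁻¹) * g⁻¹ := by group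
      _ = g * ((z * c) * t * c⁻¹) * g⁻¹ := by rw [mem_centralizer_singleton_iff.1 hc']
      _ = g * z * g⁻¹ * (g * (c * t * c⁻¹) * g⁻¹) := by group
      _ = a * w := by rw [hce, hg]; group

omit T hS in
/-- The intersection of the two centralisers. -/
def CT (z t : G) : Subgroup G := centralizer ({z} : Set G) ⊓ centralizer ({t} : Set G)

omit T hS in
theorem mem_CT {x : G} : x ∈ CT z t ↔ x * z = z * x ∧ x * t = t * x :=
  mem_inf.trans (and_congr mem_centralizer_singleton_iff mem_centralizer_singleton_iff)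

theorem Seed.t_CT : t ∈ CT z t := mem_CT.2 ⟨hS.tz T, rfl⟩

theorem Seed.z_CT : z ∈ CT z t := mem_CT.2 ⟨rfl, (hS.tz T).symm⟩

/-- An element of the intersection fixing the second point of the kernel centralises the four group. -/
theorem Seed.cent_of_fix_s {x : G} (hx : x ∈ CT z t) (hs : x * B.s = B.s * x) :
    x ∈ centralizer (hS.V0 T : Set G) := by
  obtain ⟨hxz, hxt⟩ := mem_CT.1 hx
  have hxC : x ∈ centralizer ({z} : Set G) := mem_centralizer_singleton_iff.2 hxz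
  set h := actG D x with hh
  have h1 : h * oW [16, 17] = oW [16, 17] * h := by
    rw [hh, ← hS.act_t T, ← actG_mul D hxC hS.rep.mem_C, ← actG_mul D hS.rep.mem_C hxC, hxt]
  have he : h.1 e0 = e0 := fix_e0 h1
  have hr := hS.rep.conj hxz hs
  rw [hxt, mul_inv_cancel_right] at hr
  obtain ⟨e1, e2⟩ := hr.unique hS.rep
  rw [← hh] at e1 e2
  have hadm := u_words.2.2.2.2.1
  have hr33 : red (h.1 (vec 33)) = vec 32 := by
    rw [← red_app he, u_words.2.2.2.2.2.1]; exact e2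
  obtain ⟨δ, h33⟩ : ∃ δ : ZMod 2, h.1 (vec 33) = vec 33 + δ • e0 := by
    have e33 : vec 33 = vec 32 + e0 := by decide +kernel
    rcases red_cases (h.1 (vec 33)) with e | e <;> rw [hr33] at e
    · exact ⟨1, by rw [one_smul, e, e33, add_assoc, add_self, add_zero]⟩
    · exact ⟨0, by rw [zero_smul, add_zero, e, ← e33]⟩
  have h2 : h * oW [32, 33] = oW [32, 33] * h := by
    have huM : ∀ m, (oW [32, 33]).1 m = uMap (vec 33) m := fun m => by
      obtain ⟨n, hn, rfl⟩ := exists_code m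
      rw [oW_apply u_words.2.1 hn]
      exact u_words.2.2.2.2.2.2.2 ⟨n, hn⟩
    have hf0 : ∀ m : M6, bf (m + bf m e0 • f0) (vec 33) = bf m (vec 33) + bf m e0 * bf f0 (vec 33) := fun m => by
      rw [bf_add_left, bf_smul_left]
    refine Subtype.ext (LinearEquiv.ext fun m => ?_)
    show h.1 ((oW [32, 33]).1 m) = (oW [32, 33]).1 (h.1 m)
    rw [huM, huM, uMap, uMap, hf0, hf0, map_add, map_add, map_smul, map_smul, he, h33]
    have b1 : bf (h.1 m) e0 = bf m e0 := by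
      conv_lhs => arg 2; rw [← he]
      rw [bf_oGroup]
    have hv : vec 33 = h.1 (vec 33) + δ • e0 := by rw [h33, add_assoc, add_self, add_zero]
    have b2 : bf (h.1 m) (vec 33) = bf m (vec 33) + δ * bf m e0 := by
      conv_lhs => arg 2; rw [hv]
      rw [bf_comm, bf_add_left, bf_smul_left, bf_comm, bf_oGroup, bf_comm e0, b1]
    rw [b1, b2]
    have a2 : ∀ a : ZMod 2, a + a = 0 := by decide
    simp only [smul_add, smul_smul, add_smul, mul_comm δ (bf m e0)]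
    abel
  obtain ⟨w, hadm', hu⟩ := radical_form B (actG_mem D) h1 h2
  obtain ⟨b, hb, hbw⟩ := B.wv_surj hadm'
  obtain ⟨q, hqd⟩ : ∃ q, q = b⁻¹ * x := ⟨_, rfl⟩
  have hqC : q ∈ centralizer ({z} : Set G) := hqd ▸ mul_mem (inv_mem hb.2) hxC
  have hqQ : q ∈ D.Q := by
    refine (actG_one_iff D hqC).1 ?_
    rw [hqd, actG_mul D (inv_mem hb.2) hxC, actG_inv D hb.2, inv_mul_eq_one, actG_eq D hb.2]
    exact Subtype.ext (LinearEquiv.ext fun m => by rw [(B.act_P hb).2, hbw, ← hh, hu])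
  have hqs : q * B.s = B.s * q := by
    rw [hqd]
    exact ((show Commute b B.s from (B.P_fix hb).2).inv_left.mul_left (show Commute x B.s from hs)).eq
  have hrep : Rep B x (red (B.wv b)) (red (D.π q)) :=
    ⟨b, q, hb, Subgroup.mem_inf.2 ⟨hqQ, mem_centralizer_singleton_iff.2 hqs⟩, by rw [hqd, mul_inv_cancel_left],
      rfl, rfl⟩
  have key : ∀ w ∈ wList, ∀ v ∈ wList,
      bS (w + vec 16) (v + vec 32) = bS w v + bS (vec 16) (vec 32) →
      bT (w + vec 16) (v + vec 32) = bT w v + bT (vec 16) (vec 32) →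
      bS (w + vec 32) (v + vec 48) = bS w v + bS (vec 32) (vec 48) ∧
      bT (w + vec 32) (v + vec 48) = bT w v + bT (vec 32) (vec 48) := by decide +kernel
  obtain ⟨c1, c2⟩ := (hrep.comm_iff hS.rep).1 hxt
  exact (hS.mem_cent T).2 ⟨hxt, (hrep.comm_iff (hS.rep' T)).2
    (key _ hrep.mem_list.1 _ hrep.mem_list.2 c1 c2)⟩

/-- An element of the intersection exchanging the other two members of the four group. -/
theorem Seed.exists_swap :
    ∃ σ ∈ CT z t, (∀ v ∈ hS.V0 T, σ * v * σ⁻¹ ∈ hS.V0 T) ∧ σ * B.s * σ⁻¹ = B.s * z ∧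
      σ ∉ centralizer (hS.V0 T : Set G) := by
  obtain ⟨ψ₁, P₁⟩ := T.exists_psi
  obtain ⟨w, hwy, -, hwC⟩ := T.exists_inverter (P₁.mem (CfsgLib.U43Type.h₀, 1)) P₁.hcube P₁.hact
  have hV' := (hS.isFour T).conj (c := w) (Or.inr hwy)
  obtain ⟨k, hk, hkV⟩ := hS.exists_conj T hV' (by
    rintro _ ⟨v, hv, rfl⟩
    exact mul_mem (mul_mem hwC (hS.V0_le T hv)) (inv_mem hwC))
  obtain ⟨hkC, hky⟩ := (mem_Kc T).1 hk
  obtain ⟨σ, hσd⟩ : ∃ σ, σ = k⁻¹ * w := ⟨_, rfl⟩
  have hσC : σ ∈ centralizer ({z} : Set G) := hσd ▸ mul_mem (inv_mem hkC) hwC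
  have hσy : σ * y * σ⁻¹ = y⁻¹ := by
    rw [hσd, show k⁻¹ * w * y * (k⁻¹ * w)⁻¹ = k⁻¹ * (w * y * w⁻¹) * k by group, hwy, mul_assoc,
      ← (show Commute k y from hky).inv_right.eq, inv_mul_cancel_left]
  have hσV : ∀ v ∈ hS.V0 T, σ * v * σ⁻¹ ∈ hS.V0 T := by
    intro v hv
    obtain ⟨u, hu, hue⟩ : w * v * w⁻¹ ∈ (hS.V0 T).map (MulAut.conj k).toMonoidHom := hkV ▸ ⟨v, hv, rfl⟩
    have hue' : k * u * k⁻¹ = w * v * w⁻¹ := hue
    have e : σ * v * σ⁻¹ = u := by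
      rw [hσd, show k⁻¹ * w * v * (k⁻¹ * w)⁻¹ = k⁻¹ * (w * v * w⁻¹) * k by group, ← hue']; group
    exact e ▸ hu
  have hyV : ∀ n : ℕ, ∀ v ∈ hS.V0 T, y ^ n * v * (y ^ n)⁻¹ ∈ hS.V0 T := by
    intro n v hv
    induction n with
    | zero => simpa using hv
    | succ n ih =>
      rw [pow_succ', show y * y ^ n * v * (y * y ^ n)⁻¹ = y * (y ^ n * v * (y ^ n)⁻¹) * y⁻¹ by group]
      exact hS.y_norm T ih
  obtain ⟨-, -, hc, hd⟩ := hS.relations T
  obtain ⟨j, hj⟩ : ∃ j : ℕ, y ^ j * (σ * t * σ⁻¹) * (y ^ j)⁻¹ = t := by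
    have y3 := T.three
    rcases (hS.mem_V0 T).1 (hσV t (hS.t_mem T)) with e | e | e | e
    · exact absurd (conj_eq_one_iff.1 e) (hS.t_ne T)
    · exact ⟨0, by simpa using e⟩
    · refine ⟨2, ?_⟩
      rw [e, show y ^ 2 * (y * t * y⁻¹) * (y ^ 2)⁻¹ = y ^ 3 * t * (y ^ 3)⁻¹ by
        simp only [pow_succ, pow_zero, one_mul, mul_inv_rev, mul_assoc], y3]
      group
    · refine ⟨1, ?_⟩
      rw [e, ← hd, pow_one, show y * (y * (y * t * y⁻¹) * y⁻¹) * y⁻¹ = y ^ 3 * t * (y ^ 3)⁻¹ by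
        simp only [pow_succ, pow_zero, one_mul, mul_inv_rev, mul_assoc], y3]
      group
  obtain ⟨τ, hτd⟩ : ∃ τ, τ = y ^ j * σ := ⟨_, rfl⟩
  have hτC : τ ∈ centralizer ({z} : Set G) := hτd ▸ mul_mem (pow_mem T.mem j) hσC
  have hτt : τ * t * τ⁻¹ = t := by
    rw [hτd, show y ^ j * σ * t * (y ^ j * σ)⁻¹ = y ^ j * (σ * t * σ⁻¹) * (y ^ j)⁻¹ by group, hj]
  have hτy : τ * y * τ⁻¹ = y⁻¹ := by
    rw [hτd, show y ^ j * σ * y * (y ^ j * σ)⁻¹ = y ^ j * (σ * y * σ⁻¹) * (y ^ j)⁻¹ by group, hσy,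
      ((Commute.refl y).pow_left j).inv_right.eq, mul_inv_cancel_right]
  have hτT : τ ∈ CT z t :=
    mem_CT.2 ⟨mem_centralizer_singleton_iff.1 hτC, mul_inv_eq_iff_eq_mul.1 hτt⟩
  have hτV : ∀ v ∈ hS.V0 T, τ * v * τ⁻¹ ∈ hS.V0 T := fun v hv => by
    rw [hτd, show y ^ j * σ * v * (y ^ j * σ)⁻¹ = y ^ j * (σ * v * σ⁻¹) * (y ^ j)⁻¹ by group]
    exact hyV j _ (hσV v hv)
  have hnot : τ ∉ centralizer (hS.V0 T : Set G) := by
    intro h
    have h1 := mem_centralizer_iff.1 h _ (hS.t'_mem T)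
    have e1 : τ * (y * t * y⁻¹) * τ⁻¹ = y * t * y⁻¹ := by rw [← h1, mul_inv_cancel_right]
    have e2 : τ * (y * t * y⁻¹) * τ⁻¹ = y⁻¹ * t * y := by
      calc τ * (y * t * y⁻¹) * τ⁻¹ = (τ * y * τ⁻¹) * (τ * t * τ⁻¹) * (τ * y * τ⁻¹)⁻¹ := by group
        _ = _ := by rw [hτy, hτt, inv_inv]
    have e3 : y * (y * t * y⁻¹) * y⁻¹ = y⁻¹ * t * y := by
      have hyy : y * y = y⁻¹ := by
        rw [eq_comm, inv_eq_iff_mul_eq_one]
        calc y * (y * y) = y ^ 3 := by simp only [pow_succ, pow_zero, one_mul, mul_assoc]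
          _ = 1 := T.three
      rw [show y * (y * t * y⁻¹) * y⁻¹ = (y * y) * t * (y * y)⁻¹ by group, hyy, inv_inv]
    exact (hS.t_ne T) ((mul_eq_right).1 ((hd.symm.trans e3).trans (e2.symm.trans e1)))
  refine ⟨τ, hτT, hτV, ?_, hnot⟩
  have hmem := conj_mem_Q D hτC B.sQ
  have hπ : D.π (τ * B.s * τ⁻¹) = D.π B.s := by
    rw [actG_π D hτC B.sQ, B.πs, fix_e0]
    rw [← hS.act_t T, ← actG_mul D hτC hS.rep.mem_C, ← actG_mul D hS.rep.mem_C hτC, (mem_CT.1 hτT).2]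
  exact (eq_of_π D B.sQ hmem hπ.symm).resolve_left
    fun e => hnot (hS.cent_of_fix_s T hτT (mul_inv_eq_iff_eq_mul.1 e))

/-- The intersection normalises the four group. -/
theorem Seed.CT_split {x : G} (hx : x ∈ CT z t) :
    (∀ v ∈ hS.V0 T, x * v * x⁻¹ ∈ hS.V0 T) ∧
      (x * B.s = B.s * x ↔ x ∈ centralizer (hS.V0 T : Set G)) ∧
      ∀ σ ∈ CT z t, σ * B.s * σ⁻¹ = B.s * z → x ∉ centralizer (hS.V0 T : Set G) →
        σ⁻¹ * x ∈ centralizer (hS.V0 T : Set G) := by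
  have hsx : ∀ {x : G}, x ∈ centralizer ({z} : Set G) → x ∈ centralizer (hS.V0 T : Set G) →
      x * B.s = B.s * x := fun {x} hxC hxV => by
    obtain ⟨w, v, h⟩ := hS.rep_of_cent T hxC hxV
    exact h.comm_inV ((B.inV_of (Or.inr (Or.inr (Or.inl rfl)))).1)
  have hsz : ∀ {x : G}, x ∈ CT z t → ¬ x * B.s = B.s * x → x * B.s * x⁻¹ = B.s * z := by
    intro x hx hns
    have hxC : x ∈ centralizer ({z} : Set G) := hx.1
    have hπ : D.π (x * B.s * x⁻¹) = D.π B.s := by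
      rw [actG_π D hxC B.sQ, B.πs, fix_e0]
      rw [← hS.act_t T, ← actG_mul D hxC hS.rep.mem_C, ← actG_mul D hS.rep.mem_C hxC, (mem_CT.1 hx).2]
    exact (eq_of_π D B.sQ (conj_mem_Q D hxC B.sQ) hπ.symm).resolve_left fun e => hns (mul_inv_eq_iff_eq_mul.1 e)
  have hout : ∀ {x : G}, x ∈ CT z t → ∀ σ ∈ CT z t, σ * B.s * σ⁻¹ = B.s * z →
      x ∉ centralizer (hS.V0 T : Set G) → σ⁻¹ * x ∈ centralizer (hS.V0 T : Set G) := by
    intro x hx σ hσ hσs hxn
    refine hS.cent_of_fix_s T (mul_mem (inv_mem hσ) hx) (mul_inv_eq_iff_eq_mul.1 ?_)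
    rw [show σ⁻¹ * x * B.s * (σ⁻¹ * x)⁻¹ = σ⁻¹ * (x * B.s * x⁻¹) * σ by group,
      hsz hx (fun e => hxn (hS.cent_of_fix_s T hx e)), ← hσs]
    group
  refine ⟨?_, ⟨fun e => hS.cent_of_fix_s T hx e, hsx hx.1⟩, fun σ hσ hσs hn => hout hx σ hσ hσs hn⟩
  by_cases hxn : x ∈ centralizer (hS.V0 T : Set G)
  · intro v hv
    rw [← mem_centralizer_iff.1 hxn v hv, mul_inv_cancel_right]
    exact hv
  · obtain ⟨σ, hσ, hσV, hσs, -⟩ := hS.exists_swap T
    intro v hv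
    have h1 := mem_centralizer_iff.1 (hout hx σ hσ hσs hxn) v hv
    have h2 : x * v * x⁻¹ = σ * v * σ⁻¹ := by
      calc x * v * x⁻¹ = σ * ((σ⁻¹ * x) * v) * x⁻¹ := by group
        _ = σ * (v * (σ⁻¹ * x)) * x⁻¹ := by rw [h1]
        _ = σ * v * σ⁻¹ := by group
    rw [h2]
    exact hσV v hv

end CfsgLib.SuzSeven
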