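import Cfsg.Agent.SuzSeven.Plane
import Cfsg.Agent.SuzOrder.Classes

/-!
Involutions whose product with the fixed one has even order, in the configuration of order 20160.
-/

set_option autoImplicit false
set_option linter.style.haveILetI false

namespace CfsgLib.SuzSeven

open Subgroup

variable {K : Type*} [Group K] [Finite K] {z : K} {S E E' Z : Subgroup K} (C : Conf z S E E' Z)
include C

omit [Finite K] in
theorem Conf.symm : Conf z S E' E Z where
  cent := C.cent
  cardS := C.cardS
  cardE := C.cardE'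
  cardE' := C.cardE
  cardZ := C.cardZ
  sqE := C.sqE'
  sqE' := C.sqE
  leE := C.leE'
  leE' := C.leE
  inf := inf_comm E' E ▸ C.inf
  zZ := C.zZ
  zne := C.zne
  invol := fun x hx h => (C.invol x hx h).symm
  cross := fun e he x hx hxZ h => by
    by_contra hn
    exact hxZ (C.cross x hx e he hn h.symm)
  central := C.central
  normE := C.normE'
  normE' := C.normE
  one := C.one

omit [Finite K] in
theorem Conf.zS' : z ∈ S := C.leE (by rw [← C.inf] at *; exact (C.inf.symm ▸ C.zZ : z ∈ E ⊓ E').1)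

theorem Conf.cent_Z {w : K} (hw : w ∈ Z) (hw1 : w ≠ 1) : centralizer ({w} : Set K) = S := by
  have hwE : w ∈ E := (C.inf.symm ▸ hw : w ∈ E ⊓ E').1
  refine (eq_of_le_of_card_ge (fun s hs => mem_centralizer_singleton_iff.2 (C.central w hw s hs)) ?_).symm
  rw [C.card_cent (C.sqE w hwE) hw1, C.cardS]

/-- The fibre over the fixed involution. -/
theorem Conf.card_half {a : K} (ha : a ∈ E) (haZ : a ∉ Z) :
    Nat.card {i : K // i ∈ S ∧ i * i = 1 ∧ (a * i) * (a * i) = z} = 4 := by
  classical
  have hZE : Z ≤ E := C.inf ▸ inf_le_left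
  have hZE' : Z ≤ E' := C.inf ▸ inf_le_right
  have ha2 : a * a = 1 := C.sqE a ha
  have hai : a⁻¹ = a := inv_eq_of_mul_eq_one_right ha2
  have hmemZ : ∀ {i : K}, i ∈ E' → a * i * (a * i) ∈ Z := fun {i} hi => by
    rw [← C.inf]
    refine mem_inf.2 ⟨?_, ?_⟩
    · have := mul_mem ha (C.normE i (C.leE' hi) a ha)
      rw [inv_eq_of_mul_eq_one_right (C.sqE' i hi)] at this
      simpa [mul_assoc] using this
    · have := mul_mem (C.normE' a (C.leE ha) i hi) hi
      rw [hai] at this
      simpa [mul_assoc] using this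
  let ψ : E' →* Z := MonoidHom.mk' (fun i => ⟨a * i * (a * i), hmemZ i.2⟩) fun i j => Subtype.ext (by
    show a * ((i : K) * j) * (a * ((i : K) * j)) = a * (i : K) * (a * i) * (a * (j : K) * (a * j))
    have h1 : a * (j : K) * a ∈ E' := by
      have := C.normE' a (C.leE ha) j j.2
      rwa [hai] at this
    have hc := C.symm.commE h1 i.2
    calc a * ((i : K) * j) * (a * ((i : K) * j)) = (a * i * a) * (a * a)⁻¹ * (((a * j * a) * i) * j) := by group
      _ = (a * i * a) * ((i * (a * j * a)) * j) := by rw [ha2, hc]; group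
      _ = _ := by group)
  have hcomm : ∀ {i : K}, i * i = 1 → a * i * (a * i) = 1 → a * i = i * a := fun {i} h2 e => by
    rw [eq_inv_of_mul_eq_one_left e, mul_inv_rev, inv_eq_of_mul_eq_one_right h2, hai]
  have hker : ψ.ker = Z.subgroupOf E' := by
    ext ⟨i, hi⟩
    rw [MonoidHom.mem_ker, mem_subgroupOf, Subtype.ext_iff]
    show a * i * (a * i) = 1 ↔ i ∈ Z
    constructor
    · intro e
      by_contra hiZ
      exact haZ (C.cross a ha i hi hiZ (hcomm (C.sqE' i hi) e))
    · intro hiZ
      have h := C.central i hiZ a (C.leE ha)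
      calc a * i * (a * i) = a * (i * a) * i := by group
        _ = a * (a * i) * i := by rw [h]
        _ = a * a * (i * i) := by group
        _ = 1 := by rw [ha2, C.sqE' i hi, one_mul]
  have hk4 : Nat.card ψ.ker = 4 := by
    rw [hker, Nat.card_congr (subgroupOfEquivOfLe hZE').toEquiv, C.cardZ]
  have hsurj : Function.Surjective ψ := by
    rw [← MonoidHom.range_eq_top]
    refine eq_top_of_card_eq _ ?_
    have h := card_eq_card_quotient_mul_card_subgroup ψ.ker
    rw [Nat.card_congr (QuotientGroup.quotientKerEquivRange ψ).toEquiv, hk4, C.cardE'] at h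
    rw [C.cardZ]; omega
  obtain ⟨i0, hi0⟩ := hsurj ⟨z, C.zZ⟩
  rw [← hk4]
  have hE : ∀ i : K, i ∈ S → i * i = 1 → a * i * (a * i) = z → i ∈ E' := fun i h1 h2 h3 => by
    refine (C.invol i h1 h2).resolve_left fun hiE => ?_
    refine C.zne (h3.symm.trans ?_)
    exact C.sqE _ (mul_mem ha hiE)
  refine Nat.card_congr
    { toFun := fun i => ⟨i0⁻¹ * ⟨i.1, hE i.1 i.2.1 i.2.2.1 i.2.2.2⟩, ?_⟩
      invFun := fun k => ⟨(i0 * k.1 : E'), C.leE' (i0 * k.1 : E').2, C.sqE' _ (i0 * k.1 : E').2, ?_⟩
      left_inv := fun i => Subtype.ext ((congrArg (fun x : E' => (x : K))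
        (mul_inv_cancel_left i0 ⟨i.1, hE i.1 i.2.1 i.2.2.1 i.2.2.2⟩) :))
      right_inv := fun k => Subtype.ext (inv_mul_cancel_left i0 k.1) }
  · rw [MonoidHom.mem_ker, map_mul, map_inv, hi0, inv_mul_eq_one]
    exact Subtype.ext i.2.2.2.symm
  · have h : ψ (i0 * k.1) = ⟨z, C.zZ⟩ := by rw [map_mul, hi0, MonoidHom.mem_ker.1 k.2, mul_one]
    exact congrArg Subtype.val h

theorem Conf.card_star_ne {A : Subgroup K} {n : ℕ} (h : Nat.card A = n + 1) :
    Nat.card {e : K // e ∈ A ∧ e ≠ 1} = n := C.card_star h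

/-- The number of involutions with product of even order with the fixed one. -/
theorem Conf.card_even :
    Nat.card {i : K // i * i = 1 ∧ i ≠ 1 ∧ Even (orderOf (z * i))} = 122 := by
  classical
  haveI := Fintype.ofFinite K
  have hZE : Z ≤ E := C.inf ▸ inf_le_left
  have hZE' : Z ≤ E' := C.inf ▸ inf_le_right
  have hzE : z ∈ E := hZE C.zZ
  have hz2 : z * z = 1 := C.sqE z hzE
  set A := Finset.univ.filter fun i : K => i ∈ S ∧ i * i = 1 ∧ i ≠ 1 ∧ i ≠ z with hA
  set W := Finset.univ.filter fun w : K => w ∈ S ∧ w * w = 1 ∧ w ∉ Z with hW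
  set U := Finset.univ.filter fun i : K => i * i = 1 ∧ i ≠ 1 ∧ Even (orderOf (z * i)) with hU
  have hUc : Nat.card {i : K // i * i = 1 ∧ i ≠ 1 ∧ Even (orderOf (z * i))} = U.card := by
    rw [Nat.card_eq_fintype_card, Fintype.card_subtype]
  have hsets : ∀ {B : Subgroup K}, (Finset.univ.filter fun e : K => e ∈ B).card = Nat.card B := fun {B} => by
    rw [← Fintype.card_subtype, ← Nat.card_eq_fintype_card]
  have hinvS : ∀ i : K, (i ∈ S ∧ i * i = 1) ↔ (i ∈ E ∨ i ∈ E') := fun i =>
    ⟨fun h => C.invol i h.1 h.2, fun h => h.elim (fun h => ⟨C.leE h, C.sqE i h⟩) (fun h => ⟨C.leE' h, C.sqE' i h⟩)⟩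
  have h28 : (Finset.univ.filter fun i : K => i ∈ S ∧ i * i = 1).card = 28 := by
    have h := Finset.card_union_add_card_inter (Finset.univ.filter fun e : K => e ∈ E)
      (Finset.univ.filter fun e : K => e ∈ E')
    rw [← Finset.filter_or, ← Finset.filter_and, hsets, hsets, C.cardE, C.cardE',
      show (Finset.univ.filter fun e : K => e ∈ E ∧ e ∈ E') = Finset.univ.filter (fun e : K => e ∈ Z) by
        exact Finset.filter_congr fun e _ => by rw [← C.inf, mem_inf], hsets, C.cardZ] at h
    rw [show (Finset.univ.filter fun i : K => i ∈ S ∧ i * i = 1) = Finset.univ.filter (fun i => i ∈ E ∨ i ∈ E')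
      from Finset.filter_congr fun i _ => hinvS i]
    omega
  have hAc : A.card = 26 := by
    have e : A = ((Finset.univ.filter fun i : K => i ∈ S ∧ i * i = 1).erase 1).erase z := by
      ext i
      simp only [hA, Finset.mem_filter, Finset.mem_univ, true_and, Finset.mem_erase]
      tauto
    rw [e, Finset.card_erase_of_mem (by simp [C.zne, C.zS', hz2]),
      Finset.card_erase_of_mem (by simp [one_mem]), h28]
  have hWc : W.card = 24 := by
    have e : W = (Finset.univ.filter fun i : K => i ∈ S ∧ i * i = 1) \ (Finset.univ.filter fun i : K => i ∈ Z) := by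
      ext i
      simp only [hW, Finset.mem_filter, Finset.mem_univ, true_and, Finset.mem_sdiff]
      tauto
    rw [e, Finset.card_sdiff_of_subset, h28, hsets, C.cardZ]
    intro i
    simp only [Finset.mem_filter, Finset.mem_univ, true_and]
    exact fun h => ⟨C.leE (hZE h), C.sqE i (hZE h)⟩
  have hAU : ∀ i ∈ A, i ∈ U := by
    intro i hi
    simp only [hA, hU, Finset.mem_filter, Finset.mem_univ, true_and] at hi ⊢
    obtain ⟨hiS, hi2, hi1, hiz⟩ := hi
    refine ⟨hi2, hi1, ?_⟩
    have hc : Commute z i := C.central z C.zZ i hiS |>.symm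
    rw [orderOf_eq_prime (p := 2) (by rw [hc.mul_pow, pow_two, pow_two, hz2, hi2, one_mul])
      fun e => hiz (mul_left_cancel (e.trans hz2.symm))]
    exact even_two
  set V := U.filter fun i => i ∉ S with hV
  have hsplit : U.card = A.card + V.card := by
    have e : U = A ∪ V := by
      ext i
      simp only [Finset.mem_union, hV, Finset.mem_filter]
      refine ⟨fun h => ?_, fun h => h.elim (hAU i) And.left⟩
      by_cases hiS : i ∈ S
      · left
        simp only [hU, hA, Finset.mem_filter, Finset.mem_univ, true_and] at h ⊢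
        refine ⟨hiS, h.1, h.2.1, ?_⟩
        rintro rfl
        rw [hz2, orderOf_one] at h
        exact absurd h.2.2 (by decide)
      · exact Or.inr ⟨h, hiS⟩
    rw [e, Finset.card_union_of_disjoint]
    rw [Finset.disjoint_left]
    intro i hi hi'
    simp only [hA, hV, Finset.mem_filter, Finset.mem_univ, true_and] at hi hi'
    exact hi'.2 hi.1
  let f : K → K := fun i => (z * i) ^ (orderOf (z * i) / 2)
  have hfV : ∀ i ∈ V, f i ∈ W := by
    intro i hi
    simp only [hV, hU, Finset.mem_filter, Finset.mem_univ, true_and] at hi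
    obtain ⟨⟨hi2, hi1, hev⟩, hiS⟩ := hi
    obtain ⟨k, hk⟩ := hev
    have hpos := orderOf_pos (z * i)
    have hw2 : f i * f i = 1 := by
      show (z * i) ^ _ * (z * i) ^ _ = 1
      rw [← pow_add, show orderOf (z * i) / 2 + orderOf (z * i) / 2 = orderOf (z * i) by omega, pow_orderOf_eq_one]
    have hw1 : f i ≠ 1 := pow_ne_one_of_lt_orderOf (by omega) (by omega)
    obtain ⟨c1, c2, -⟩ := dih_cases hz2 hi2 hw2 hw1 (pow_mem (mem_zpowers _) _)
    have hwS : f i ∈ S := C.cent ▸ mem_centralizer_singleton_iff.2 c1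
    simp only [hW, Finset.mem_filter, Finset.mem_univ, true_and]
    refine ⟨hwS, hw2, fun hwZ => hiS ?_⟩
    rw [← C.cent_Z hwZ hw1]
    exact mem_centralizer_singleton_iff.2 c2.symm
  have hfib : ∀ w ∈ W, (V.filter fun i => f i = w).card = 4 := by
    intro w hw
    simp only [hW, Finset.mem_filter, Finset.mem_univ, true_and] at hw
    obtain ⟨hwS, hw2, hwZ⟩ := hw
    have hw1 : w ≠ 1 := fun e => hwZ (e ▸ one_mem _)
    obtain ⟨g, hg⟩ := isConj_iff.1 (C.one w hw2 hw1)
    obtain ⟨a, had⟩ : ∃ a, a = g⁻¹ * z * g := ⟨_, rfl⟩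
    have ha2 : a * a = 1 := by
      rw [had, show g⁻¹ * z * g * (g⁻¹ * z * g) = g⁻¹ * (z * z) * g by group, hz2]; group
    have haS : a ∈ S := by
      rw [← C.cent, mem_centralizer_singleton_iff, had]
      have h := C.central z C.zZ w hwS
      rw [← hg] at h
      calc g⁻¹ * z * g * z = g⁻¹ * (z * (g * z * g⁻¹)) * g := by group
        _ = g⁻¹ * (g * z * g⁻¹ * z) * g := by rw [← h]
        _ = z * (g⁻¹ * z * g) := by group
    have haZ : a ∉ Z := by
      intro haZ
      have ha1 : a ≠ 1 := fun e => C.zne (by rw [show z = g * a * g⁻¹ by rw [had]; group, e]; group)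
      have h1 := C.cent_conj (g := g) (e := w) hg
      have h2 : centralizer ({w} : Set K) = S := by
        refine eq_of_le_of_card_ge ?_ (by rw [C.card_cent hw2 hw1, C.cardS])
        rw [h1]
        rintro _ ⟨s, hs, rfl⟩
        rw [← C.cent, mem_centralizer_singleton_iff]
        show g * s * g⁻¹ * z = z * (g * s * g⁻¹)
        have h3 := C.central a haZ s hs
        rw [had] at h3
        calc g * s * g⁻¹ * z = g * (s * (g⁻¹ * z * g)) * g⁻¹ := by group
          _ = g * (g⁻¹ * z * g * s) * g⁻¹ := by rw [h3]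
          _ = z * (g * s * g⁻¹) := by group
      apply hwZ
      have hall : ∀ s ∈ S, w * s = s * w := fun s hs =>
        (mem_centralizer_singleton_iff.1 (h2.symm ▸ hs)).symm
      rcases C.invol w hwS hw2 with hwE | hwE'
      · obtain ⟨x, hx, hxZ⟩ := SetLike.exists_of_lt (lt_of_le_not_ge hZE' fun hle => by
          have := Nat.le_of_dvd Nat.card_pos (card_dvd_of_le hle)
          rw [C.cardE', C.cardZ] at this; omega)
        exact C.cross w hwE x hx hxZ (hall x (C.leE' hx))
      · obtain ⟨x, hx, hxZ⟩ := SetLike.exists_of_lt (lt_of_le_not_ge hZE fun hle => by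
          have := Nat.le_of_dvd Nat.card_pos (card_dvd_of_le hle)
          rw [C.cardE, C.cardZ] at this; omega)
        exact C.symm.cross w hwE' x hx hxZ (hall x (C.leE hx))
    have hcard : Nat.card {i : K // i ∈ S ∧ i * i = 1 ∧ (a * i) * (a * i) = z} = 4 :=
      (C.invol a haS ha2).elim (fun h => C.card_half h haZ) (fun h => C.symm.card_half h haZ)
    rw [← hcard, ← Fintype.card_coe, ← Nat.card_eq_fintype_card]
    have hprod : ∀ i, g * (a * i) * g⁻¹ = z * (g * i * g⁻¹) := fun i => by rw [had]; group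
    refine Nat.card_congr
      { toFun := fun i => ⟨g⁻¹ * i.1 * g, ?_⟩
        invFun := fun j => ⟨g * j.1 * g⁻¹, ?_⟩
        left_inv := fun i => Subtype.ext (by group)
        right_inv := fun j => Subtype.ext (by group) }
    · have hi := i.2
      simp only [hV, hU, Finset.mem_filter, Finset.mem_univ, true_and] at hi
      obtain ⟨⟨⟨hi2, hi1, hev⟩, hiS⟩, hfi⟩ := hi
      obtain ⟨c1, c2, -⟩ := dih_cases hz2 hi2 hw2 hw1 (mem_zpowers_iff.2 ⟨(orderOf (z * i.1) / 2 : ℕ), (zpow_natCast _ _).trans hfi⟩)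
      have hi'2 : g⁻¹ * i.1 * g * (g⁻¹ * i.1 * g) = 1 := by
        rw [show g⁻¹ * i.1 * g * (g⁻¹ * i.1 * g) = g⁻¹ * (i.1 * i.1) * g by group, hi2]; group
      have hi'S : g⁻¹ * i.1 * g ∈ S := by
        rw [← C.cent, mem_centralizer_singleton_iff]
        calc g⁻¹ * i.1 * g * z = g⁻¹ * (i.1 * (g * z * g⁻¹)) * g := by group
          _ = g⁻¹ * (g * z * g⁻¹ * i.1) * g := by rw [hg, c2]
          _ = z * (g⁻¹ * i.1 * g) := by group
      refine ⟨hi'S, hi'2, ?_⟩
      set p := a * (g⁻¹ * i.1 * g) * (a * (g⁻¹ * i.1 * g)) with hp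
      have hgp : g * p * g⁻¹ = (z * i.1) ^ 2 := by rw [hp, had, pow_two]; group
      have hS1 : ∀ e ∈ S, e * e = 1 → e ∈ E ∨ e ∈ E' := fun e h1 h2 => C.invol e h1 h2
      have hp2 : p * p = 1 := by
        rcases C.invol a haS ha2 with h | h
        · refine C.sqE p ?_
          have := mul_mem h (C.normE _ hi'S a h)
          rw [inv_eq_of_mul_eq_one_right hi'2] at this
          rw [hp]; simpa [mul_assoc] using this
        · refine C.sqE' p ?_
          have := mul_mem h (C.normE' _ hi'S a h)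
          rw [inv_eq_of_mul_eq_one_right hi'2] at this
          rw [hp]; simpa [mul_assoc] using this
      have hp1 : p ≠ 1 := fun e => hiS (by
        rw [← C.cent, mem_centralizer_singleton_iff]
        have h : z * i.1 * (z * i.1) = 1 := by rw [← pow_two, ← hgp, e]; group
        rw [eq_inv_of_mul_eq_one_left h, mul_inv_rev, inv_eq_of_mul_eq_one_right hi2,
          inv_eq_of_mul_eq_one_right hz2])
      have h4 : orderOf (z * i.1) = 4 := by
        have hd : orderOf (z * i.1) ∣ 2 ^ (1 + 1) := orderOf_dvd_of_pow_eq_one (by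
          rw [pow_succ, pow_one, pow_mul, ← hgp, pow_two,
            show g * p * g⁻¹ * (g * p * g⁻¹) = g * (p * p) * g⁻¹ by group, hp2]; group)
        have hn : ¬ (z * i.1) ^ 2 ^ 1 = 1 := by
          rw [pow_one, ← hgp]
          exact fun e => hp1 (conj_eq_one_iff.1 e)
        exact orderOf_eq_prime_pow hn (orderOf_dvd_iff_pow_eq_one.1 hd)
      show p = z
      have : g * p * g⁻¹ = g * z * g⁻¹ := by
        rw [hgp, hg]
        refine Eq.trans ?_ hfi
        show _ = (z * i.1) ^ (orderOf (z * i.1) / 2)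
        rw [h4]
      exact mul_left_cancel (mul_right_cancel this)
    · obtain ⟨hjS, hj2, hjz⟩ := j.2
      have hz' : (z * (g * j.1 * g⁻¹)) ^ 2 = w := by
        rw [pow_two, ← hprod, show g * (a * j.1) * g⁻¹ * (g * (a * j.1) * g⁻¹) = g * (a * j.1 * (a * j.1)) * g⁻¹ by
          group, hjz, hg]
      have hn : ¬ (z * (g * j.1 * g⁻¹)) ^ 2 ^ 1 = 1 := by rw [pow_one, hz']; exact hw1
      have h4 : orderOf (z * (g * j.1 * g⁻¹)) = 4 :=
        orderOf_eq_prime_pow hn (by rw [pow_succ, pow_one, pow_mul, hz', pow_two, hw2])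
      simp only [hV, hU, Finset.mem_filter, Finset.mem_univ, true_and]
      refine ⟨⟨⟨?_, fun e => ?_, by rw [h4]; decide⟩, fun hS => ?_⟩, ?_⟩
      · rw [show g * j.1 * g⁻¹ * (g * j.1 * g⁻¹) = g * (j.1 * j.1) * g⁻¹ by group, hj2]; group
      · rw [e, mul_one] at hz'
        exact hw1 (by rw [← hz', pow_two, hz2])
      · have hc : Commute z (g * j.1 * g⁻¹) := (C.central z C.zZ _ hS).symm
        apply hw1
        rw [← hz', hc.mul_pow, pow_two, pow_two, hz2,
          show g * j.1 * g⁻¹ * (g * j.1 * g⁻¹) = g * (j.1 * j.1) * g⁻¹ by group, hj2]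
        group
      · show (z * (g * j.1 * g⁻¹)) ^ _ = w
        rw [h4]; exact hz'
  have hVc : V.card = 96 := by
    rw [Finset.card_eq_sum_card_fiberwise (t := W) (f := f) (fun i hi => Finset.mem_coe.2 (hfV i (Finset.mem_coe.1 hi))),
      Finset.sum_congr rfl hfib, Finset.sum_const, hWc, smul_eq_mul]
  rw [hUc, hsplit, hAc, hVc]

end CfsgLib.SuzSeven
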