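import Cfsg.Agent.SuzOrder.Count
import Cfsg.Agent.SuzOrder.OddPairs
import Cfsg.Agent.Invol.BrauerFowler

/-!
The order of a group of Suzuki-sporadic type, by Thompson's order formula.
-/

set_option autoImplicit false
set_option linter.style.haveILetI false
set_option maxRecDepth 100000

namespace CfsgLib.SuzOrder

open CfsgLib CfsgLib.Quad CfsgLib.SuzInvol CfsgLib.SuzThree CfsgLib.SuzSeven Subgroup
open CfsgLib.SuzEleven (cX)
open Cfsg.Agent.McLU43 (K9)

local notation "PSU4" => Cfsg.PSU 4 K9 3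

variable {G : Type*} [Group G] [Finite G] {z : G}

/-- A sum of equal fibres. -/
theorem card_fibres {α β : Type*} [Finite α] [Finite β] (f : β → α) (n : ℕ)
    (h : ∀ a, Nat.card {b // f b = a} = n) : Nat.card β = Nat.card α * n := by
  classical
  haveI := Fintype.ofFinite α
  rw [← Nat.card_congr (Equiv.sigmaFiberEquiv f), Nat.card_sigma, Finset.sum_congr rfl fun a _ => h a,
    Finset.sum_const, Finset.card_univ, smul_eq_mul, Nat.card_eq_fintype_card]

/-- The order of the centraliser of the central involution. -/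
theorem card_centralizer (D : Dat z) : Nat.card (centralizer ({z} : Set G)) = 3317760 := by
  have hrange : D.act.range = commutator (oGroup q6) :=
    le_antisymm (by rintro _ ⟨c, rfl⟩; exact D.act_mem c) fun h hh => D.act_surj h hh
  have hle : D.Q ≤ centralizer ({z} : Set G) := fun q hq => SuzInvol.mem_C D hq
  have hker : Nat.card D.act.ker = 128 := by
    rw [← D.card, ← Nat.card_congr (subgroupOfEquivOfLe hle).toEquiv]
    refine Nat.card_congr (Equiv.subtypeEquivRight fun c => ?_)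
    rw [MonoidHom.mem_ker, D.act_eq_one, mem_subgroupOf]
  rw [card_eq_card_quotient_mul_card_subgroup D.act.ker,
    Nat.card_congr (QuotientGroup.quotientKerEquivRange D.act).toEquiv, hrange, hker, card_omega6]

variable {D : Dat z} {B : Base D} {y t : G} (T : Three D y) (hS : Seed B y t)
variable {π : cX y →* PSU4} (P : SuzEleven.Pi T π)
include hS P

/-- The class of the second involution inside the centraliser of the first. -/
theorem card_t_class : Nat.card {v : G // v ∈ centralizer ({z} : Set G) ∧ IsConj t v} = 6480 := by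
  set C := centralizer ({z} : Set G)
  let tC : C := ⟨t, hS.rep.mem_C⟩
  have h := SuzSeven.card_class (M := C) tC
  have hc : Nat.card (centralizer ({tC} : Set C)) = 512 := by
    rw [← hS.card_CT T P]
    refine Nat.card_congr
      { toFun := fun x => ⟨(x.1 : G), x.1.2, mem_centralizer_singleton_iff.2
          (congrArg Subtype.val (mem_centralizer_singleton_iff.1 x.2))⟩
        invFun := fun x => ⟨⟨x.1, x.2.1⟩, mem_centralizer_singleton_iff.2
          (Subtype.ext (mem_centralizer_singleton_iff.1 x.2.2))⟩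
        left_inv := fun x => rfl
        right_inv := fun x => rfl }
  have he : Nat.card {v : G // v ∈ C ∧ IsConj t v} = Nat.card {w : C // IsConj tC w} := by
    refine Nat.card_congr
      { toFun := fun v => ⟨⟨v.1, v.2.1⟩, ?_⟩
        invFun := fun w => ⟨w.1, w.1.2, ?_⟩
        left_inv := fun v => rfl
        right_inv := fun w => rfl }
    · obtain ⟨g, hg⟩ := isConj_iff.1 v.2.2
      have h2 : v.1 * v.1 = 1 := by
        rw [← hg, show g * t * g⁻¹ * (g * t * g⁻¹) = g * (t * t) * g⁻¹ by group, hS.t_sq T]; group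
      have h1 : v.1 ≠ 1 := fun e => hS.t_ne T (conj_eq_one_iff.1 (hg.trans e))
      rcases hS.class_cases T v.2.1 h2 h1 with hz | ⟨c, hc, e⟩
      · exact absurd (hz.trans v.2.2.symm) (hS.t_not T)
      · exact isConj_iff.2 ⟨⟨c, hc⟩, Subtype.ext e⟩
    · obtain ⟨c, hc'⟩ := isConj_iff.1 w.2
      exact isConj_iff.2 ⟨c, congrArg Subtype.val hc'⟩
  rw [hc, card_centralizer D, ← he] at h
  omega

/-- The pairs over the central involution. -/
theorem card_pairs_z :
    Nat.card {q : G × G // IsConj z q.1 ∧ IsConj t q.2 ∧ z ∈ zpowers (q.1 * q.2)} = 6480 * 236 := by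
  obtain ⟨co, hq0⟩ := exists_co D B.sQ (B.πs.trans vec1.symm)
  have hinv : ∀ {u : G}, IsConj z u → u * u = 1 := fun {u} h => by
    obtain ⟨g, rfl⟩ := isConj_iff.1 h
    rw [show g * z * g⁻¹ * (g * z * g⁻¹) = g * (z * z) * g⁻¹ by group, D.pre.gen.sq]; group
  have hinv' : ∀ {u : G}, IsConj t u → u * u = 1 := fun {u} h => by
    obtain ⟨g, rfl⟩ := isConj_iff.1 h
    rw [show g * t * g⁻¹ * (g * t * g⁻¹) = g * (t * t) * g⁻¹ by group, hS.t_sq T]; group
  have hC : ∀ {u v : G}, IsConj z u → IsConj t v → z ∈ zpowers (u * v) →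
      u ∈ centralizer ({z} : Set G) ∧ v ∈ centralizer ({z} : Set G) := fun hu hv h => by
    obtain ⟨c1, c2, -⟩ := dih_cases (hinv hu) (hinv' hv) D.pre.gen.sq D.pre.gen.ne_one h
    exact ⟨mem_centralizer_singleton_iff.2 c1.symm, mem_centralizer_singleton_iff.2 c2.symm⟩
  let f : {q : G × G // IsConj z q.1 ∧ IsConj t q.2 ∧ z ∈ zpowers (q.1 * q.2)} →
      {v : G // v ∈ centralizer ({z} : Set G) ∧ IsConj t v} :=
    fun q => ⟨q.1.2, (hC q.2.1 q.2.2.1 q.2.2.2).2, q.2.2.1⟩
  rw [card_fibres f 236 fun v => ?_, card_t_class T hS P]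
  rw [← co.count_good hq0 T hS P]
  obtain ⟨v, hv, hvt⟩ := v
  obtain ⟨g, hg⟩ := isConj_iff.1 hvt
  have h2 : v * v = 1 := hinv' hvt
  have h1 : v ≠ 1 := fun e => hS.t_ne T (conj_eq_one_iff.1 (hg.trans e))
  obtain ⟨c, hc, hce⟩ := (hS.class_cases T hv h2 h1).resolve_left fun hz => hS.t_not T (hz.trans hvt.symm)
  have hcz : c * z * c⁻¹ = z := by rw [mem_centralizer_singleton_iff.1 hc, mul_inv_cancel_right]
  have hmem : ∀ {u : G}, z ∈ zpowers (c * (u * t) * c⁻¹) ↔ z ∈ zpowers (u * t) := fun {u} => by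
    rw [show c * (u * t) * c⁻¹ = MulAut.conj c (u * t) from rfl,
      ← MulEquiv.coe_toMonoidHom, ← MonoidHom.map_zpowers]
    conv_lhs => arg 2; rw [show z = MulAut.conj c z from hcz.symm]
    exact mem_map_iff_mem (MulAut.conj c).injective
  refine Nat.card_congr
    { toFun := fun q => ⟨c⁻¹ * q.1.1.1 * c, ?_⟩
      invFun := fun u => ⟨⟨(c * u.1 * c⁻¹, v), ?_⟩, Subtype.ext rfl⟩
      left_inv := fun q => ?_
      right_inv := fun u => Subtype.ext (by group) }
  · obtain ⟨⟨⟨u, v'⟩, hu, hv', hz⟩, hq⟩ := q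
    obtain rfl : v' = v := congrArg Subtype.val hq
    refine ⟨mul_mem (mul_mem (inv_mem hc) (hC hu hv' hz).1) hc, hu.trans (isConj_iff.2 ⟨c⁻¹, by group⟩), ?_⟩
    rw [← hmem, show c * (c⁻¹ * u * c * t) * c⁻¹ = u * (c * t * c⁻¹) by group, hce]
    exact hz
  · refine ⟨u.2.2.1.trans (isConj_iff.2 ⟨c, rfl⟩), hvt, ?_⟩
    show z ∈ zpowers (c * u.1 * c⁻¹ * v)
    rw [← hce, show c * u.1 * c⁻¹ * (c * t * c⁻¹) = c * (u.1 * t) * c⁻¹ by group, hmem]
    exact u.2.2.2
  · obtain ⟨⟨⟨u, v'⟩, hu, hv', hz⟩, hq⟩ := q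
    obtain rfl : v' = v := congrArg Subtype.val hq
    refine Subtype.ext (Subtype.ext (Prod.ext ?_ rfl))
    show c * (c⁻¹ * u * c) * c⁻¹ = u
    group

/-- The pairs over the second involution. -/
theorem card_pairs_t :
    Nat.card {q : G × G // IsConj z q.1 ∧ IsConj t q.2 ∧ t ∈ zpowers (q.1 * q.2)} = 315 * 193 := by
  classical
  obtain ⟨b, hb⟩ := hS.exists_seven T P
  have ht2 := hS.t_sq T
  have ht1 := hS.t_ne T
  let I : Type _ := {x : G // x * t = t * x ∧ IsConj z x}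
  have hinv : ∀ {u : G}, IsConj z u → u * u = 1 ∧ u ≠ 1 := fun {u} h => by
    obtain ⟨g, rfl⟩ := isConj_iff.1 h
    refine ⟨?_, fun e => D.pre.gen.ne_one (conj_eq_one_iff.1 e)⟩
    rw [show g * z * g⁻¹ * (g * z * g⁻¹) = g * (z * z) * g⁻¹ by group, D.pre.gen.sq]; group
  have hinv' : ∀ {u : G}, IsConj t u → u * u = 1 := fun {u} h => by
    obtain ⟨g, rfl⟩ := isConj_iff.1 h
    rw [show g * t * g⁻¹ * (g * t * g⁻¹) = g * (t * t) * g⁻¹ by group, ht2]; group
  have key : ∀ {u v : G}, IsConj z u → IsConj t v → t ∈ zpowers (u * v) →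
      u * t = t * u ∧ (t * v) * t = t * (t * v) ∧ IsConj z (t * v) ∧ Odd (orderOf (u * (t * v))) := by
    intro u v hu hv h
    obtain ⟨c1, c2, hd⟩ := dih_cases (hinv hu).1 (hinv' hv) ht2 ht1 h
    have hnu : ¬ IsConj z (t * u) := by
      rw [c1]; exact hS.mul_not_conj T hu (hS.t_not T) ht2 ht1 c1.symm
    have htv : IsConj z (t * v) := hu.trans (hd.resolve_left fun e => hnu (hu.trans e))
    have htvc : (t * v) * t = t * (t * v) := by rw [mul_assoc, ← c2]
    refine ⟨c1.symm, htvc, htv, ?_⟩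
    rw [← Nat.not_even_iff_odd]
    intro hev
    obtain ⟨m, hm⟩ := hev
    have hpos := orderOf_pos (u * (t * v))
    set w := (u * (t * v)) ^ m with hw
    have hw2 : w * w = 1 := by rw [hw, ← pow_add, ← hm, pow_orderOf_eq_one]
    have hw1 : w ≠ 1 := pow_ne_one_of_lt_orderOf (by omega) (by omega)
    have hmem : w ∈ zpowers (u * v) := pow_mem (by
      rw [show u * (t * v) = u * t * v by group, ← c1, mul_assoc t u v]
      exact mul_mem h (mem_zpowers _)) m
    obtain ⟨m1, e1, e1'⟩ := pow_half hw2 hw1 hmem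
    obtain ⟨m2, e2, e2'⟩ := pow_half ht2 ht1 h
    obtain rfl : m1 = m2 := by omega
    have hwt : w = t := e1'.trans e2'.symm
    obtain ⟨-, -, hd2⟩ := dih_cases (hinv hu).1 (hinv htv).1 ht2 ht1
      (hwt.subst (motive := fun a => a ∈ zpowers (u * (t * v))) (pow_mem (mem_zpowers _) m))
    rcases hd2 with e | e
    · exact hnu (hu.trans e)
    · rw [← mul_assoc, ht2, one_mul] at e
      exact hS.t_not T ((hu.trans e).trans hv.symm)
  let f : {q : G × G // IsConj z q.1 ∧ IsConj t q.2 ∧ t ∈ zpowers (q.1 * q.2)} → I :=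
    fun q => ⟨q.1.1, (key q.2.1 q.2.2.1 q.2.2.2).1, q.2.1⟩
  have hI : Nat.card I = Nat.card {x : hS.H T // x * x = 1 ∧ x ≠ 1} := by
    refine Nat.card_congr
      { toFun := fun x => ⟨⟨x.1, ((hS.invol_cent_t T P x.2.1).1 ⟨(hinv x.2.2).1, x.2.2⟩).1⟩,
          Subtype.ext (hinv x.2.2).1, fun e => (hinv x.2.2).2 (congrArg Subtype.val e)⟩
        invFun := fun x => ⟨x.1, ((hS.mem_cent T).1 x.1.2.2).1,
          ((hS.invol_cent_t T P ((hS.mem_cent T).1 x.1.2.2).1).2
            ⟨x.1.2, congrArg Subtype.val x.2.1, fun e => x.2.2 (Subtype.ext e)⟩).2⟩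
        left_inv := fun x => rfl
        right_inv := fun x => rfl }
  have hN : Nat.card {x : hS.H T // x * x = 1 ∧ x ≠ 1} = 315 := by
    have h := (hS.conf T P).class_card
    rw [(hS.card_H T P).1] at h
    omega
  rw [card_fibres f 193 fun u => ?_, hI, hN]
  obtain ⟨u, hut, huz⟩ := u
  obtain ⟨huH, hu2, hu1⟩ := (hS.invol_cent_t T P hut).1 ⟨(hinv huz).1, huz⟩
  obtain ⟨l, hl, hle⟩ := hS.one_class T P huH hu2 hu1
  have hlt : l * t = t * l := ((hS.mem_cent T).1 hl.2).1
  have hodd : Nat.card {x : hS.H T // (x * x = 1 ∧ x ≠ 1) ∧ Odd (orderOf ((⟨z, hS.z_H T⟩ : hS.H T) * x))} = 193 := by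
    have h1 := (hS.conf T P).card_even
    let p : {x : hS.H T // x * x = 1 ∧ x ≠ 1} → Prop := fun x => Odd (orderOf ((⟨z, hS.z_H T⟩ : hS.H T) * x.1))
    have h2 := Nat.card_congr (Equiv.sumCompl p)
    rw [Nat.card_sum, hN, Nat.card_congr (Equiv.subtypeSubtypeEquivSubtypeInter
        (fun x : hS.H T => x * x = 1 ∧ x ≠ 1) fun x => Odd (orderOf ((⟨z, hS.z_H T⟩ : hS.H T) * x))),
      Nat.card_congr ((Equiv.subtypeSubtypeEquivSubtypeInter
        (fun x : hS.H T => x * x = 1 ∧ x ≠ 1) fun x => ¬ Odd (orderOf ((⟨z, hS.z_H T⟩ : hS.H T) * x))).trans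
        (Equiv.subtypeEquivRight fun x => by rw [Nat.not_odd_iff_even, and_assoc])), h1] at h2
    omega
  rw [← hodd]
  have hord : ∀ x : G, orderOf (l * (z * x) * l⁻¹) = orderOf (z * x) := fun x =>
    orderOf_injective (MulAut.conj l).toMonoidHom (MulAut.conj l).injective _
  refine Nat.card_congr
    { toFun := fun q => ⟨⟨l⁻¹ * (t * q.1.1.2) * l, ?_⟩, ⟨?_, ?_⟩, ?_⟩
      invFun := fun x => ⟨⟨(u, t * (l * x.1 * l⁻¹)), huz, ?_, ?_⟩, Subtype.ext rfl⟩
      left_inv := fun q => ?_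
      right_inv := fun x => Subtype.ext (Subtype.ext (by
        show l⁻¹ * (t * (t * (l * (x.1 : G) * l⁻¹))) * l = x.1
        rw [← mul_assoc t t, ht2, one_mul]; group)) }
  · obtain ⟨-, k2, k3, -⟩ := key q.1.2.1 q.1.2.2.1 q.1.2.2.2
    exact mul_mem (mul_mem (inv_mem hl) ((hS.invol_cent_t T P k2).1 ⟨(hinv k3).1, k3⟩).1) hl
  · obtain ⟨-, -, k3, -⟩ := key q.1.2.1 q.1.2.2.1 q.1.2.2.2
    refine Subtype.ext ?_
    show l⁻¹ * (t * q.1.1.2) * l * (l⁻¹ * (t * q.1.1.2) * l) = 1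
    rw [show l⁻¹ * (t * q.1.1.2) * l * (l⁻¹ * (t * q.1.1.2) * l) = l⁻¹ * ((t * q.1.1.2) * (t * q.1.1.2)) * l
      by group, (hinv k3).1]
    group
  · obtain ⟨-, -, k3, -⟩ := key q.1.2.1 q.1.2.2.1 q.1.2.2.2
    intro e
    have e' : l⁻¹ * (t * q.1.1.2) * l = 1 := congrArg Subtype.val e
    refine (hinv k3).2 ?_
    calc t * q.1.1.2 = l * (l⁻¹ * (t * q.1.1.2) * l) * l⁻¹ := by group
      _ = 1 := by rw [e']; group
  · obtain ⟨⟨⟨u', v⟩, hu', hv, h⟩, hq⟩ := q
    obtain rfl : u' = u := congrArg Subtype.val hq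
    obtain ⟨-, -, -, k4⟩ := key hu' hv h
    rw [← Subgroup.orderOf_coe]
    show Odd (orderOf (z * (l⁻¹ * (t * v) * l)))
    rw [← hord, show l * (z * (l⁻¹ * (t * v) * l)) * l⁻¹ = l * z * l⁻¹ * (t * v) by group, hle]
    exact k4
  · obtain ⟨⟨x, hxH⟩, ⟨hx2, hx1⟩, hxo⟩ := x
    have hxt := ((hS.mem_cent T).1 hxH.2).1
    have hxz := ((hS.invol_cent_t T P hxt).2
      ⟨hxH, congrArg Subtype.val hx2, fun e => hx1 (Subtype.ext e)⟩).2
    have hiz : IsConj z (l * x * l⁻¹) := hxz.trans (isConj_iff.2 ⟨l, rfl⟩)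
    obtain ⟨hi2, hi1⟩ := hinv hiz
    have hit : l * x * l⁻¹ * t = t * (l * x * l⁻¹) :=
      (((show Commute l t from hlt).mul_left (show Commute x t from hxt)).mul_left
        (show Commute l t from hlt).inv_left).eq
    refine (hS.two_classes T ?_ ?_).resolve_left ?_
    · rw [show t * (l * x * l⁻¹) * (t * (l * x * l⁻¹)) = t * (l * x * l⁻¹ * t) * (l * x * l⁻¹) by group, hit,
        ← mul_assoc t, ht2, one_mul, hi2]
    · intro e
      apply hS.t_not T
      rw [eq_inv_of_mul_eq_one_left e, inv_eq_of_mul_eq_one_right hi2]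
      exact hiz
    · rw [← hit]; exact hS.mul_not_conj T hiz (hS.t_not T) ht2 ht1 hit
  · obtain ⟨⟨x, hxH⟩, ⟨hx2, hx1⟩, hxo⟩ := x
    have hxt := ((hS.mem_cent T).1 hxH.2).1
    rw [← Subgroup.orderOf_coe] at hxo
    have hxo' : Odd (orderOf (z * x)) := hxo
    rw [← hord, show l * (z * x) * l⁻¹ = l * z * l⁻¹ * (l * x * l⁻¹) by group, hle] at hxo'
    obtain ⟨j, hj⟩ := hxo'
    show t ∈ zpowers (u * (t * (l * x * l⁻¹)))
    have hit : Commute t (l * x * l⁻¹) :=
      ((((show Commute l t from hlt).mul_left (show Commute x t from hxt)).mul_left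
        (show Commute l t from hlt).inv_left)).symm
    have hc : Commute t (u * (l * x * l⁻¹)) := (show Commute t u from hut.symm).mul_right hit
    have e : u * (t * (l * x * l⁻¹)) = t * (u * (l * x * l⁻¹)) := by
      rw [← mul_assoc, hut, mul_assoc]
    rw [e]
    refine mem_zpowers_iff.2 ⟨((2 * j + 1 : ℕ) : ℤ), ?_⟩
    rw [zpow_natCast, hc.mul_pow, ← hj, pow_orderOf_eq_one, mul_one, hj, pow_succ, pow_mul, pow_two, ht2, one_pow,
      one_mul]
  · obtain ⟨⟨⟨u', v⟩, hu', hv, h⟩, hq⟩ := q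
    obtain rfl : u' = u := congrArg Subtype.val hq
    refine Subtype.ext (Subtype.ext (Prod.ext rfl ?_))
    show t * (l * (l⁻¹ * (t * v) * l) * l⁻¹) = v
    rw [show l * (l⁻¹ * (t * v) * l) * l⁻¹ = t * v by group, ← mul_assoc, ht2, one_mul]

/-- The order of the group. -/
theorem card_group : Nat.card G = 448345497600 := by
  rw [BrauerFowler.order_formula (x₁ := z) (x₂ := t)
      (orderOf_eq_prime (by rw [pow_two]; exact D.pre.gen.sq) D.pre.gen.ne_one)
      (orderOf_eq_prime (by rw [pow_two]; exact hS.t_sq T) (hS.t_ne T)) (hS.t_not T) fun x hx => ?_,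
    hS.card_cent_t T P, card_centralizer D, card_pairs_z T hS P, card_pairs_t T hS P]
  exact hS.two_classes T (by rw [← pow_two, ← hx, pow_orderOf_eq_one]) fun e => by
    rw [e, orderOf_one] at hx; omega

end CfsgLib.SuzOrder
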