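import Cfsg.Agent.SuzOrder.Classes
import Cfsg.Agent.ZStar.Final

/-!
The centraliser of an involution of the second class: it normalises a four group and has order 161280.
-/

set_option autoImplicit false
set_option linter.style.haveILetI false
set_option maxRecDepth 100000

namespace CfsgLib.SuzSeven

open CfsgLib CfsgLib.Quad CfsgLib.SuzInvol CfsgLib.SuzThree Subgroup
open CfsgLib.SuzEleven (cX mem_cX)
open Cfsg.Agent.McLU43 (K9)

local notation "PSU4" => Cfsg.PSU 4 K9 3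

section General

variable {R : Type*} [Group R] [Finite R]

/-- Two cosets. -/
theorem card_two_cosets {A B : Subgroup R} (hAB : A ≤ B) {σ : R} (hσ : σ ∈ B) (hσA : σ ∉ A)
    (h : ∀ x ∈ B, x ∉ A → σ⁻¹ * x ∈ A) : Nat.card B = 2 * Nat.card A := by
  classical
  let f : Fin 2 × A → B := fun p =>
    if p.1 = 0 then ⟨p.2, hAB p.2.2⟩ else ⟨σ * p.2, mul_mem hσ (hAB p.2.2)⟩
  have hf : Function.Bijective f := by
    constructor
    · rintro ⟨i, a⟩ ⟨j, a'⟩ e
      have e' := congrArg Subtype.val e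
      fin_cases i <;> fin_cases j <;> simp [f] at e'
      · subst e'; rfl
      · exact absurd (eq_mul_inv_of_mul_eq e'.symm ▸ mul_mem a.2 (inv_mem a'.2)) hσA
      · exact absurd (eq_mul_inv_of_mul_eq e' ▸ mul_mem a'.2 (inv_mem a.2)) hσA
      · subst e'; rfl
    · rintro ⟨x, hx⟩
      by_cases hxA : x ∈ A
      · exact ⟨(0, ⟨x, hxA⟩), by simp [f]⟩
      · exact ⟨(1, ⟨σ⁻¹ * x, h x hx hxA⟩), Subtype.ext (by simp [f])⟩
  rw [← Nat.card_eq_of_bijective f hf, Nat.card_prod, Nat.card_fin]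

/-- An involution without fixed points on a normalised subgroup inverts it. -/
theorem inverts_of_fpf {N : Subgroup R} {w : R} (hw : w * w = 1) (hn : ∀ n ∈ N, w * n * w⁻¹ ∈ N)
    (hf : ∀ n ∈ N, w * n * w⁻¹ = n → n = 1) {n : R} (hnN : n ∈ N) : w * n * w⁻¹ = n⁻¹ := by
  let f : N → N := fun m => ⟨(m : R)⁻¹ * (w * m * w⁻¹), mul_mem (inv_mem m.2) (hn m m.2)⟩
  have hinj : Function.Injective f := by
    intro a b e
    have e' : (a : R)⁻¹ * (w * a * w⁻¹) = (b : R)⁻¹ * (w * b * w⁻¹) := congrArg Subtype.val e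
    have h1 : w * ((b : R) * (a : R)⁻¹) * w⁻¹ = (b : R) * (a : R)⁻¹ := by
      calc w * ((b : R) * (a : R)⁻¹) * w⁻¹ = (w * b * w⁻¹) * (w * a * w⁻¹)⁻¹ := by group
        _ = b * ((b : R)⁻¹ * (w * b * w⁻¹)) * (w * a * w⁻¹)⁻¹ := by group
        _ = b * ((a : R)⁻¹ * (w * a * w⁻¹)) * (w * a * w⁻¹)⁻¹ := by rw [e']
        _ = _ := by group
    exact Subtype.ext (mul_inv_eq_one.1 (hf _ (mul_mem b.2 (inv_mem a.2)) h1)).symm
  obtain ⟨m, hm⟩ := Finite.injective_iff_surjective.1 hinj ⟨n, hnN⟩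
  have hm' : (m : R)⁻¹ * (w * m * w⁻¹) = n := congrArg Subtype.val hm
  have hwi : w⁻¹ = w := inv_eq_of_mul_eq_one_right hw
  rw [← hm', hwi, mul_inv_rev, mul_inv_rev, mul_inv_rev, inv_inv, hwi]
  simp [mul_assoc, hw]

end General

variable {G : Type*} [Group G] [Finite G] {z : G} {D : Dat z} {B : Base D} {y t : G}
variable (T : Three D y) (hS : Seed B y t)
include T hS

theorem Seed.S_le_CT : hS.S T ≤ CT z t := fun _ hx =>
  mem_CT.2 ⟨mem_centralizer_singleton_iff.1 ((mem_Kc T).1 hx.1).1, ((hS.mem_cent T).1 hx.2).1⟩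

/-- An element outside the centraliser exchanges. -/
theorem Seed.swap_eq {x : G} (hxt : x * t = t * x) (hn : x * (y * t * y⁻¹) * x⁻¹ ∈ hS.V0 T)
    (hx : x ∉ centralizer (hS.V0 T : Set G)) : x * (y * t * y⁻¹) * x⁻¹ = t * (y * t * y⁻¹) := by
  obtain ⟨-, h2, h3, h4, -⟩ := hS.distinct T
  rcases (hS.mem_V0 T).1 hn with e | e | e | e
  · exact absurd (conj_eq_one_iff.1 e) h2
  · refine absurd ?_ h4
    calc t = x⁻¹ * (t * x) := by rw [← hxt, inv_mul_cancel_left]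
      _ = x⁻¹ * ((x * (y * t * y⁻¹) * x⁻¹) * x) := by rw [e]
      _ = _ := by group
  · exact absurd ((hS.mem_cent T).2 ⟨hxt, mul_inv_eq_iff_eq_mul.1 e⟩) hx
  · exact e

/-- Involutions of the first class normalising the four group centralise it. -/
theorem Seed.cent_of_conj {x : G} (hxt : x * t = t * x) (hx2 : x * x = 1) (hz : IsConj z x)
    (hn : x * (y * t * y⁻¹) * x⁻¹ ∈ hS.V0 T) : x ∈ centralizer (hS.V0 T : Set G) := by
  by_contra hx
  have e := hS.swap_eq T hxt hn hx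
  obtain ⟨a, b, c, -⟩ := hS.relations T
  refine hS.mul_not_conj T hz (hS.t_not T) (hS.t_sq T) (hS.t_ne T) hxt
    (hz.trans (isConj_iff.2 ⟨y * t * y⁻¹, ?_⟩))
  generalize y * t * y⁻¹ = u at e b c ⊢
  rw [inv_eq_of_mul_eq_one_right hx2] at e
  rw [inv_eq_of_mul_eq_one_right b]
  calc u * x * u = (x * x) * u * x * u := by rw [hx2, one_mul]
    _ = x * (x * u * x) * u := by group
    _ = x * (t * u) * u := by rw [e]
    _ = x * t * (u * u) := by group
    _ = x * t := by rw [b, mul_one]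

theorem Seed.eq_of_prod {x v h : G} (hv : v ∈ hS.V0 T) (hh : h ∈ hS.H T) {π : cX y →* PSU4}
    (P : SuzEleven.Pi T π) (e : x = v * h) (hx2 : x * x = 1) (hz : IsConj z x) : x = h := by
  have hvh : h * v = v * h := (mem_centralizer_iff.1 hh.2 v hv).symm
  have hh2 : h * h = 1 := by
    rw [← hx2, e]
    calc h * h = v * v * (h * h) := by rw [(hS.isFour T).sq v hv, one_mul]
      _ = v * (v * h) * h := by group
      _ = v * (h * v) * h := by rw [hvh]
      _ = v * h * (v * h) := by group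
  by_contra hne
  have hv1 : v ≠ 1 := fun e' => hne (by rw [e, e', one_mul])
  by_cases hh1 : h = 1
  · exact (hS.isFour T).cls v hv hv1 (by rwa [e, hh1, mul_one] at hz)
  obtain ⟨l, hl, hle⟩ := hS.one_class T P hh hh2 hh1
  refine hS.z_mul_cls T hv hv1 (hz.trans (isConj_iff.2 ⟨l, ?_⟩).symm)
  rw [e, hvh.symm, ← hle]
  calc l * (z * v) * l⁻¹ = l * z * (v * l⁻¹) := by group
    _ = l * z * (l⁻¹ * v) := by rw [mem_centralizer_iff.1 (inv_mem hl.2) v hv]
    _ = _ := by group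

variable {π : cX y →* PSU4} (P : SuzEleven.Pi T π)
include P

/-- The involutions of the first class in the intersection. -/
theorem Seed.invol_CT {x : G} (hx : x ∈ CT z t) (hx2 : x * x = 1) (hz : IsConj z x) : x ∈ hS.S T := by
  have hV := hS.cent_of_conj T (mem_CT.1 hx).2 hx2 hz ((hS.CT_split T hx).1 _ (hS.t'_mem T))
  obtain ⟨v, hv, hs⟩ := hS.cent_split T hx.1 hV
  have e : x = v * (x * v) := by
    rw [← mem_centralizer_iff.1 hV v hv, ← mul_assoc, (hS.isFour T).sq v hv, one_mul]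
  rw [hS.eq_of_prod T hv (hS.S_le_H T hs) P e hx2 hz]
  exact hs

/-- The central involution is the only one of its class in the centre of the intersection. -/
theorem Seed.center_CT {x : G} (hx : x ∈ CT z t) (hx2 : x * x = 1) (hz : IsConj z x)
    (hc : ∀ a ∈ CT z t, x * a = a * x) : x = z := by
  have hxS := hS.invol_CT T P hx hx2 hz
  have hx1 : x ≠ 1 := fun e => by
    obtain ⟨g, hg⟩ := isConj_iff.1 hz
    rw [e, conj_eq_one_iff] at hg
    exact D.pre.gen.ne_one hg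
  have key : ∀ l l' : Fin 4, (l, l') ∈ ([(1, 2), (2, 1)] : List (Fin 4 × Fin 4)) → x ∈ Ek B l → x ∈ Zv B := by
    intro l l' hp hxl
    by_contra hxZ
    have hl' : l' ∈ ([1, 2] : List (Fin 4)) := by
      simp only [List.mem_cons, List.not_mem_nil, or_false, Prod.mk.injEq] at hp
      rcases hp with ⟨-, rfl⟩ | ⟨-, rfl⟩ <;> simp
    have hp' : (l', l) ∈ ([(1, 2), (2, 1)] : List (Fin 4 × Fin 4)) := by
      simp only [List.mem_cons, List.not_mem_nil, or_false, Prod.mk.injEq] at hp ⊢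
      tauto
    obtain ⟨e, he, heZ⟩ := SetLike.exists_of_lt (lt_of_le_not_ge (Zv_le_Ek (B := B) l') fun hle => by
      have := Nat.le_of_dvd Nat.card_pos (card_dvd_of_le hle)
      rw [card_Ek hl', card_Zv] at this
      omega)
    exact heZ (Ek_cross hp' he hxl hxZ (hc e (hS.S_le_CT T (Ek_le_S hl' T hS he))).symm)
  obtain ⟨σ, hσ, -, hσs, -⟩ := hS.exists_swap T
  have hxZ : x ∈ Zv B := (hS.involution T hxS hx2).elim
    (key 1 2 (List.Mem.head _)) (key 2 1 (List.Mem.tail _ (List.Mem.head _)))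
  have hσx : σ * x * σ⁻¹ = x := by rw [← hc σ hσ, mul_inv_cancel_right]
  rcases B.inV_cases hxZ with e | e | e | e
  · exact absurd e hx1
  · exact e
  · rw [e, hσs] at hσx
    exact absurd (mul_eq_left.1 hσx) D.pre.gen.ne_one
  · rw [e, show σ * (z * B.s) * σ⁻¹ = σ * z * σ⁻¹ * (σ * B.s * σ⁻¹) by group, hσs, (mem_CT.1 hσ).1,
      mul_inv_cancel_right, ← mul_assoc] at hσx
    exact absurd (mul_eq_left.1 hσx) D.pre.gen.ne_one

theorem Seed.isPGroup_CT : IsPGroup 2 (CT z t) := by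
  have hV : ∀ {x : G}, x ∈ CT z t → x ∈ centralizer (hS.V0 T : Set G) → ∃ k : ℕ, x ^ 2 ^ k = 1 := by
    intro x hx hxV
    obtain ⟨v, hv, hs⟩ := hS.cent_split T hx.1 hxV
    obtain ⟨k, hk⟩ := (IsPGroup.of_card (n := 6) (by rw [hS.card_S T]; norm_num) : IsPGroup 2 (hS.S T)) ⟨_, hs⟩
    refine ⟨k + 1, ?_⟩
    have hk' : (x * v) ^ 2 ^ k = 1 := congrArg Subtype.val hk
    have hcm : Commute x v := (mem_centralizer_iff.1 hxV v hv).symm
    have h2 : (x * v) ^ 2 = x ^ 2 := by rw [hcm.mul_pow, pow_two v, (hS.isFour T).sq v hv, mul_one]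
    rw [pow_succ', pow_mul, ← h2, ← pow_mul, mul_comm, pow_mul, hk', one_pow]
  rintro ⟨x, hx⟩
  obtain ⟨σ, hσ, -, hσs, -⟩ := hS.exists_swap T
  have hx2 : x ^ 2 ∈ centralizer (hS.V0 T : Set G) := by
    by_cases hxV : x ∈ centralizer (hS.V0 T : Set G)
    · exact pow_mem hxV 2
    refine hS.cent_of_fix_s T (pow_mem hx 2) ?_
    have h1 := mem_centralizer_iff.1 ((hS.CT_split T hx).2.2 σ hσ hσs hxV)
    have hxs : x * B.s * x⁻¹ = B.s * z := by
      have h2 := ((hS.CT_split T (mul_mem (inv_mem hσ) hx)).2.1).2 ((hS.CT_split T hx).2.2 σ hσ hσs hxV)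
      calc x * B.s * x⁻¹ = σ * ((σ⁻¹ * x) * B.s) * x⁻¹ := by group
        _ = σ * (B.s * (σ⁻¹ * x)) * x⁻¹ := by rw [h2]
        _ = σ * B.s * σ⁻¹ := by group
        _ = B.s * z := hσs
    refine mul_inv_eq_iff_eq_mul.1 ?_
    rw [pow_two, show x * x * B.s * (x * x)⁻¹ = x * (x * B.s * x⁻¹) * x⁻¹ by group, hxs,
      show x * (B.s * z) * x⁻¹ = x * B.s * x⁻¹ * (x * z * x⁻¹) by group, hxs, (mem_CT.1 hx).1,
      mul_inv_cancel_right, mul_assoc, D.pre.gen.sq, mul_one]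
  obtain ⟨k, hk⟩ := hV (pow_mem hx 2) hx2
  exact ⟨k + 1, Subtype.ext (by
    show x ^ 2 ^ (k + 1) = 1
    rw [pow_succ', pow_mul, hk])⟩

theorem Seed.card_CT : Nat.card (CT z t) = 512 := by
  obtain ⟨σ, hσ, -, hσs, hσn⟩ := hS.exists_swap T
  rw [card_two_cosets (A := CT z t ⊓ centralizer (hS.V0 T : Set G)) inf_le_left hσ (fun h => hσn h.2)
    fun x hx hxA => mem_inf.2 ⟨mul_mem (inv_mem hσ) hx, (hS.CT_split T hx).2.2 σ hσ hσs fun h => hxA (mem_inf.2 ⟨hx, h⟩)⟩]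
  rw [show 512 = 2 * Nat.card (hS.V0 T × hS.S T) by rw [Nat.card_prod, hS.card_V0 T, hS.card_S T]]
  congr 1
  refine (Nat.card_eq_of_bijective (fun p : hS.V0 T × hS.S T => (⟨(p.1 : G) * p.2,
    mem_inf.2 ⟨mul_mem (mem_CT.2 ⟨mem_centralizer_singleton_iff.1 (hS.V0_le T p.1.2),
      hS.V0_comm T p.1.2 (hS.t_mem T)⟩) (hS.S_le_CT T p.2.2), mul_mem
      (mem_centralizer_iff.2 fun w hw => hS.V0_comm T hw p.1.2) p.2.2.2⟩⟩ :
      (CT z t ⊓ centralizer (hS.V0 T : Set G) : Subgroup G))) ⟨?_, ?_⟩).symm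
  · rintro ⟨⟨v, hv⟩, ⟨s, hs⟩⟩ ⟨⟨v', hv'⟩, ⟨s', hs'⟩⟩ e
    have e' : v * s = v' * s' := congrArg Subtype.val e
    have h1 : v'⁻¹ * v ∈ hS.V0 T ⊓ hS.H T := mem_inf.2 ⟨mul_mem (inv_mem hv') hv, by
      rw [show v'⁻¹ * v = v'⁻¹ * (v * s) * s⁻¹ by group, e', inv_mul_cancel_left]
      exact hS.S_le_H T (mul_mem hs' (inv_mem hs))⟩
    rw [hS.V0_inf_H T, mem_bot, inv_mul_eq_one] at h1
    subst h1
    obtain rfl := mul_left_cancel e'
    rfl
  · rintro ⟨x, hx, hxV⟩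
    obtain ⟨v, hv, hs⟩ := hS.cent_split T hx.1 hxV
    refine ⟨(⟨v, hv⟩, ⟨x * v, hs⟩), Subtype.ext ?_⟩
    show v * (x * v) = x
    rw [← mem_centralizer_iff.1 hxV v hv, ← mul_assoc, (hS.isFour T).sq v hv, one_mul]

/-- The centraliser of the involution normalises the four group. -/
theorem Seed.norm_of_cent {g : G} (hg : g * t = t * g) : g * (y * t * y⁻¹) * g⁻¹ ∈ hS.V0 T := by
  classical
  obtain ⟨b, hb⟩ := hS.exists_seven T P
  set Ht := centralizer ({t} : Set G) with hHt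
  set tH : Ht := ⟨t, mem_centralizer_singleton_iff.2 rfl⟩ with htH
  obtain ⟨t₁, ht₁⟩ : ∃ t₁, t₁ = y * t * y⁻¹ := ⟨_, rfl⟩
  obtain ⟨-, d2, d3, d4, -⟩ := hS.distinct T
  have ht₁H : t₁ ∈ Ht := mem_centralizer_singleton_iff.2 (ht₁ ▸ (hS.relations T).2.2.1.symm)
  haveI hZn : (zpowers tH).Normal := ⟨fun n hn x => by
    obtain ⟨k, rfl⟩ := mem_zpowers_iff.1 hn
    have hc : Commute x tH := Subtype.ext (mem_centralizer_singleton_iff.1 x.2)
    rw [(hc.zpow_right k).eq, mul_inv_cancel_right]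
    exact zpow_mem (mem_zpowers _) k⟩
  have hZmem : ∀ {x : Ht}, x ∈ zpowers tH → (x : G) = 1 ∨ (x : G) = t := fun {x} hx => by
    obtain ⟨k, rfl⟩ := mem_zpowers_iff.1 hx
    rcases Int.even_or_odd k with ⟨j, rfl⟩ | ⟨j, rfl⟩
    · left
      rw [zpow_add, ← (Commute.refl tH).mul_zpow, show tH * tH = 1 from Subtype.ext (hS.t_sq T), one_zpow]
      rfl
    · right
      rw [show 2 * j + 1 = j + j + 1 by ring, zpow_add, zpow_add, ← (Commute.refl tH).mul_zpow,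
        show tH * tH = 1 from Subtype.ext (hS.t_sq T), one_zpow, one_mul, zpow_one]
  set q := QuotientGroup.mk' (zpowers tH) with hq
  haveI : Fact (Nat.Prime 2) := ⟨Nat.prime_two⟩
  obtain ⟨S2, hS2⟩ : ∃ S2 : Sylow 2 Ht, (CT z t).subgroupOf Ht ≤ S2 :=
    IsPGroup.exists_le_sylow ((hS.isPGroup_CT T P).comap_of_injective Ht.subtype Ht.subtype_injective)
  have hsyl : (S2 : Subgroup Ht) = (CT z t).subgroupOf Ht := by
    refine le_antisymm ?_ hS2
    by_contra hne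
    haveI := S2.isPGroup'.isNilpotent
    have hcond := Group.normalizerCondition_of_isNilpotent (G := (S2 : Subgroup Ht))
    have hlt : ((CT z t).subgroupOf Ht).subgroupOf S2 < ⊤ :=
      lt_top_iff_ne_top.2 fun e => hne (subgroupOf_eq_top.1 e)
    obtain ⟨n, hn, hn'⟩ := SetLike.exists_of_lt (hcond _ hlt)
    apply hn'
    obtain ⟨m, hm⟩ : ∃ m : G, m = ((n : Ht) : G) := ⟨_, rfl⟩
    have hmt : m * t = t * m := hm ▸ mem_centralizer_singleton_iff.1 (n : Ht).2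
    have hzC : (⟨z, (hS.z_CT T).2⟩ : Ht) ∈ (S2 : Subgroup Ht) := hS2 (mem_subgroupOf.2 (hS.z_CT T))
    have hconj : ∀ a ∈ CT z t, m * a * m⁻¹ ∈ CT z t ∧ m⁻¹ * a * m ∈ CT z t := by
      intro a ha
      have h1 := (mem_normalizer_iff.1 hn ⟨⟨a, ha.2⟩, hS2 (mem_subgroupOf.2 ha)⟩).1 (mem_subgroupOf.2 ha)
      have h2 := (mem_normalizer_iff.1 (inv_mem hn) ⟨⟨a, ha.2⟩, hS2 (mem_subgroupOf.2 ha)⟩).1 (mem_subgroupOf.2 ha)
      simp only [mem_subgroupOf, Subgroup.coe_mul, InvMemClass.coe_inv, inv_inv, ← hm] at h1 h2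
      exact ⟨h1, h2⟩
    refine mem_subgroupOf.2 (mem_subgroupOf.2 ?_)
    show ((n : Ht) : G) ∈ CT z t
    rw [← hm]
    refine mem_CT.2 ⟨mul_inv_eq_iff_eq_mul.1 (hS.center_CT T P (hconj z (hS.z_CT T)).1 ?_
      (isConj_iff.2 ⟨m, rfl⟩) fun a ha => ?_), hmt⟩
    · rw [show m * z * m⁻¹ * (m * z * m⁻¹) = m * (z * z) * m⁻¹ by group, D.pre.gen.sq]; group
    · have h3 := mem_centralizer_singleton_iff.1 (hconj a ha).2.1
      calc m * z * m⁻¹ * a = m * (z * (m⁻¹ * a * m)) * m⁻¹ := by group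
        _ = m * ((m⁻¹ * a * m) * z) * m⁻¹ := by rw [h3]
        _ = a * (m * z * m⁻¹) := by group
  -- isolation
  have hiso : ∀ h : Ht, (h : G) * t₁ * (h : G)⁻¹ ∈ CT z t →
      (h : G) * t₁ * (h : G)⁻¹ = t₁ ∨ (h : G) * t₁ * (h : G)⁻¹ = t * t₁ := by
    intro h hmem
    have hht : (h : G) * t = t * h := mem_centralizer_singleton_iff.1 h.2
    have hw1 : (h : G)⁻¹ * z * h ∈ centralizer (hS.V0 T : Set G) := by
      refine (hS.mem_cent T).2 ⟨?_, ?_⟩
      · have hth : (h : G) * t * (h : G)⁻¹ = t := mul_inv_eq_iff_eq_mul.2 hht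
        calc (h : G)⁻¹ * z * h * t = (h : G)⁻¹ * (z * ((h : G) * t * (h : G)⁻¹)) * h := by group
          _ = (h : G)⁻¹ * (((h : G) * t * (h : G)⁻¹) * z) * h := by rw [hth, hS.tz T]
          _ = t * ((h : G)⁻¹ * z * h) := by group
      · rw [← ht₁]
        calc (h : G)⁻¹ * z * h * t₁ = (h : G)⁻¹ * (z * ((h : G) * t₁ * (h : G)⁻¹)) * h := by group
          _ = (h : G)⁻¹ * (((h : G) * t₁ * (h : G)⁻¹) * z) * h := by
            rw [mem_centralizer_singleton_iff.1 hmem.1]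
          _ = t₁ * ((h : G)⁻¹ * z * h) := by group
    have hw2 : (h : G)⁻¹ * z * h * ((h : G)⁻¹ * z * h) = 1 := by
      rw [show (h : G)⁻¹ * z * h * ((h : G)⁻¹ * z * h) = (h : G)⁻¹ * (z * z) * h by group, D.pre.gen.sq]; group
    have hwz : IsConj z ((h : G)⁻¹ * z * h) := isConj_iff.2 ⟨(h : G)⁻¹, by group⟩
    obtain ⟨v, hv, l, hl, e⟩ := hb.cent_V0 T hS P hw1
    have hwl := hS.eq_of_prod T hv hl P e hw2 hwz
    obtain ⟨m, hm, hme⟩ := hS.one_class T P (x := (h : G)⁻¹ * z * h) (hwl ▸ hl) hw2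
      (fun e' => D.pre.gen.ne_one (by
        rw [show z = (h : G) * ((h : G)⁻¹ * z * h) * (h : G)⁻¹ by group, e']; group))
    have hmt : m * t = t * m := ((hS.mem_cent T).1 hm.2).1
    have hhm : (h : G) * m ∈ CT z t := mem_CT.2 ⟨mul_inv_eq_iff_eq_mul.1 (by
        rw [show (h : G) * m * z * ((h : G) * m)⁻¹ = (h : G) * (m * z * m⁻¹) * (h : G)⁻¹ by group, hme]; group),
      by rw [mul_assoc, hmt, ← mul_assoc, hht, mul_assoc]⟩
    have hmem2 := (hS.CT_split T hhm).1 t₁ (ht₁ ▸ hS.t'_mem T)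
    have e2 : (h : G) * m * t₁ * ((h : G) * m)⁻¹ = (h : G) * t₁ * (h : G)⁻¹ := by
      rw [show (h : G) * m * t₁ * ((h : G) * m)⁻¹ = (h : G) * (m * t₁ * m⁻¹) * (h : G)⁻¹ by group,
        ← mem_centralizer_iff.1 hm.2 t₁ (ht₁ ▸ hS.t'_mem T), mul_inv_cancel_right]
    rw [e2] at hmem2
    rcases (hS.mem_V0 T).1 hmem2 with e' | e' | e' | e'
    · exact absurd (conj_eq_one_iff.1 e') (ht₁ ▸ d2)
    · refine absurd ?_ d4
      rw [← ht₁]
      calc t = (h : G)⁻¹ * (t * h) := by rw [← hht, inv_mul_cancel_left]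
        _ = (h : G)⁻¹ * ((h : G) * t₁ * (h : G)⁻¹ * h) := by rw [e']
        _ = t₁ := by group
    · exact Or.inl (e'.trans ht₁.symm)
    · exact Or.inr (by rw [e', ← ht₁])
  set a := q ⟨t₁, ht₁H⟩ with ha
  have hiso' : ∀ g : Ht ⧸ zpowers tH,
      g * a * g⁻¹ ∈ S2.mapSurjective (f := q) (QuotientGroup.mk'_surjective _) → g * a * g⁻¹ = a := by
    intro k hk
    obtain ⟨h, rfl⟩ := QuotientGroup.mk'_surjective (zpowers tH) k
    change _ ∈ (S2 : Subgroup Ht).map q at hk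
    rw [hsyl] at hk
    obtain ⟨c, hc, hce⟩ := hk
    rw [ha, ← map_inv, ← map_mul, ← map_mul] at hce ⊢
    have hmem : (h : G) * t₁ * (h : G)⁻¹ ∈ CT z t := by
      have h1 : c⁻¹ * (h * ⟨t₁, ht₁H⟩ * h⁻¹) ∈ zpowers tH := QuotientGroup.eq.1 hce
      have hc' : (c : G) ∈ CT z t := hc
      rcases hZmem h1 with e | e <;> simp only [Subgroup.coe_mul, InvMemClass.coe_inv] at e
      · rw [inv_mul_eq_one.1 e] at hc'; exact hc'
      · rw [inv_mul_eq_iff_eq_mul.1 e]; exact mul_mem hc' (hS.t_CT T)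
    refine QuotientGroup.eq.2 ?_
    rcases hiso h hmem with e | e
    · rw [show h * ⟨t₁, ht₁H⟩ * h⁻¹ = ⟨t₁, ht₁H⟩ from Subtype.ext e, inv_mul_cancel]
      exact one_mem _
    · have ht1t1 : t₁ * t₁ = 1 := ht₁ ▸ (hS.relations T).2.1
      rw [show (h * ⟨t₁, ht₁H⟩ * h⁻¹)⁻¹ * ⟨t₁, ht₁H⟩ = tH from Subtype.ext (by
        show ((h : G) * t₁ * (h : G)⁻¹)⁻¹ * t₁ = t
        have hc' : t * t₁ = t₁ * t := ht₁ ▸ (hS.relations T).2.2.1
        rw [e, mul_inv_rev, inv_eq_of_mul_eq_one_right (hS.t_sq T), inv_eq_of_mul_eq_one_right ht1t1,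
          mul_assoc, hc', ← mul_assoc, ht1t1, one_mul])]
      exact mem_zpowers _
  have ha2 : orderOf a = 2 := by
    refine orderOf_eq_prime (by
      rw [ha, ← map_pow, show (⟨t₁, ht₁H⟩ : Ht) ^ 2 = 1 from Subtype.ext (by
        show t₁ ^ 2 = 1; rw [pow_two, ht₁]; exact (hS.relations T).2.1), map_one]) fun e => ?_
    rcases hZmem ((QuotientGroup.eq_one_iff _).1 e) with e' | e'
    · exact d2 (ht₁ ▸ e')
    · exact d4 ((show t₁ = t from e').symm.trans ht₁)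
  obtain ⟨N, hN, hNodd, hNc⟩ := ZStar.zstar_of_sylow _ ha2 hiso'
  -- no normal subgroup of odd order
  have hNbot : ∀ n ∈ N, n = 1 := by
    have hzfix : ∀ n ∈ N, q ⟨z, (hS.z_CT T).2⟩ * n * (q ⟨z, (hS.z_CT T).2⟩)⁻¹ = n → n = 1 := by
      intro n hn hfix
      obtain ⟨x, rfl⟩ := QuotientGroup.mk'_surjective (zpowers tH) n
      set m := orderOf (q x) with hm
      have hmodd : Odd m := hNodd.of_dvd_nat (by
        rw [hm, ← Subgroup.orderOf_mk (q x) hn]; exact _root_.orderOf_dvd_natCard _)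
      obtain ⟨x', hx', hx'm⟩ : ∃ x' : Ht, q x' = q x ∧ x' ^ m = 1 := by
        have h1 : x ^ m ∈ zpowers tH := by
          rw [← QuotientGroup.eq_one_iff]
          show q (x ^ m) = 1
          rw [map_pow, hm, pow_orderOf_eq_one]
        rcases hZmem h1 with e | e
        · exact ⟨x, rfl, Subtype.ext e⟩
        · refine ⟨x * tH, by rw [map_mul, show q tH = 1 from (QuotientGroup.eq_one_iff _).2 (mem_zpowers _),
            mul_one], Subtype.ext ?_⟩
          obtain ⟨j, hj⟩ := hmodd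
          have hc : Commute x tH := Subtype.ext (mem_centralizer_singleton_iff.1 x.2)
          show ((x * tH) ^ m : Ht).val = 1
          rw [hc.mul_pow, Subgroup.coe_mul, e, hj, pow_succ, pow_mul,
            show tH ^ 2 = 1 from Subtype.ext (by show t ^ 2 = 1; rw [pow_two, hS.t_sq T]), one_pow, one_mul]
          exact hS.t_sq T
      have hx'T : (x' : G) ∈ CT z t := by
        refine mem_CT.2 ⟨?_, mem_centralizer_singleton_iff.1 x'.2⟩
        rw [← hx', ← map_inv, ← map_mul, ← map_mul] at hfix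
        have h1 := QuotientGroup.eq.1 hfix
        rcases hZmem h1 with e | e <;> simp only [Subgroup.coe_mul, InvMemClass.coe_inv] at e
        · exact (mul_inv_eq_iff_eq_mul.1 (inv_mul_eq_one.1 e)).symm
        · exfalso
          have e' : z * (x' : G) * z⁻¹ = x' * t⁻¹ := by
            rw [← e]; group
          have h2 := congrArg (fun w => w ^ m) e'
          simp only [conj_pow] at h2
          rw [(show Commute (x' : G) t from mem_centralizer_singleton_iff.1 x'.2).inv_right.mul_pow,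
            show (x' : G) ^ m = 1 by rw [← SubgroupClass.coe_pow, hx'm]; rfl, mul_one, mul_inv_cancel, one_mul,
            inv_eq_of_mul_eq_one_right (hS.t_sq T)] at h2
          obtain ⟨j, hj⟩ := hmodd
          rw [hj, pow_succ, pow_mul, pow_two, hS.t_sq T, one_pow, one_mul] at h2
          exact hS.t_ne T h2.symm
      obtain ⟨k, hk⟩ := hS.isPGroup_CT T P ⟨_, hx'T⟩
      have := pow_gcd_eq_one.2 ⟨hx'm, show x' ^ 2 ^ k = 1 from Subtype.ext (by simpa using congrArg Subtype.val hk)⟩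
      rw [show Nat.gcd m (2 ^ k) = 1 from Nat.Coprime.pow_right k (Nat.coprime_two_right.2 hmodd), pow_one] at this
      rw [← hx', this, map_one]
    have hfix : ∀ w : Ht, (∃ l ∈ hS.H T, l * z * l⁻¹ = w) →
        ∀ n ∈ N, q w * n * (q w)⁻¹ = n → n = 1 := by
      rintro w ⟨l, hl, hlw⟩ n hn hf
      have hlH : l ∈ Ht := mem_centralizer_singleton_iff.2 ((hS.mem_cent T).1 hl.2).1
      obtain ⟨L, hL⟩ : ∃ L, L = q ⟨l, hlH⟩ := ⟨_, rfl⟩
      have hw : q w = L * q ⟨z, (hS.z_CT T).2⟩ * L⁻¹ := by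
        rw [hL, ← map_inv, ← map_mul, ← map_mul]
        exact congrArg q (Subtype.ext hlw.symm)
      have h1 := hzfix (L⁻¹ * n * L) (by simpa using hN.conj_mem n hn L⁻¹) (by
        calc q ⟨z, (hS.z_CT T).2⟩ * (L⁻¹ * n * L) * (q ⟨z, (hS.z_CT T).2⟩)⁻¹
            = L⁻¹ * ((L * q ⟨z, (hS.z_CT T).2⟩ * L⁻¹) * n * (L * q ⟨z, (hS.z_CT T).2⟩ * L⁻¹)⁻¹) * L := by group
          _ = L⁻¹ * n * L := by rw [← hw, hf])
      calc n = L * (L⁻¹ * n * L) * L⁻¹ := by group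
        _ = 1 := by rw [h1]; group
    have hsH : B.s ∈ hS.H T := hS.S_le_H T (Ek_le_S (List.Mem.head _) T hS
      (Zv_le_Ek 1 ((B.inV_of (Or.inr (Or.inr (Or.inl rfl)))).1)))
    have hzsH : z * B.s ∈ hS.H T := mul_mem (hS.z_H T) hsH
    have hmkH : ∀ {x : G}, x ∈ hS.H T → x ∈ Ht := fun hx =>
      mem_centralizer_singleton_iff.2 ((hS.mem_cent T).1 hx.2).1
    have hinv : ∀ w : Ht, (w : G) ∈ hS.H T → (w : G) * w = 1 → (w : G) ≠ 1 →
        ∀ n ∈ N, q w * n * (q w)⁻¹ = n⁻¹ := by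
      intro w hw hw2 hw1 n hn
      exact inverts_of_fpf (by rw [← map_mul, show w * w = 1 from Subtype.ext hw2, map_one])
        (fun n hn => hN.conj_mem n hn _) (hfix w (hS.one_class T P hw hw2 hw1)) hn
    have hs2 : B.s * B.s = 1 := B.s_sq
    have hzs2 : z * B.s * (z * B.s) = 1 := by
      rw [← inV_sq (B := B) (B.inV_of (Or.inr (Or.inr (Or.inr rfl)))).1]
    have hzs1 : z * B.s ≠ 1 := fun e => B.ne (by
      rw [← inv_eq_of_mul_eq_one_right e, inv_eq_of_mul_eq_one_right D.pre.gen.sq])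
    intro n hn
    have i1 := hinv ⟨z, (hS.z_CT T).2⟩ (hS.z_H T) D.pre.gen.sq D.pre.gen.ne_one
    have i2 := hinv ⟨B.s, hmkH hsH⟩ hsH hs2 B.s_ne n hn
    have i3 := hinv ⟨z * B.s, hmkH hzsH⟩ hzsH hzs2 hzs1 n hn
    refine hfix ⟨z * B.s, hmkH hzsH⟩ (hS.one_class T P hzsH hzs2 hzs1) n hn ?_
    rw [show (⟨z * B.s, hmkH hzsH⟩ : Ht) = ⟨z, (hS.z_CT T).2⟩ * ⟨B.s, hmkH hsH⟩ from rfl, map_mul] at i3 ⊢
    rw [show ∀ A C : Ht ⧸ zpowers tH, A * C * n * (A * C)⁻¹ = A * (C * n * C⁻¹) * A⁻¹ from fun A C => by group,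
      i2, i1 _ (inv_mem hn), inv_inv]
  -- conclusion
  set gH : Ht := ⟨g, mem_centralizer_singleton_iff.2 hg⟩
  have hcomm := hNbot _ (hNc (q gH))
  rw [ha, ← map_inv, ← map_inv, ← map_mul, ← map_mul, ← map_mul] at hcomm
  rcases hZmem ((QuotientGroup.eq_one_iff _).1 hcomm) with e | e <;>
    simp only [Subgroup.coe_mul, InvMemClass.coe_inv] at e <;> rw [← ht₁]
  · have e1 : g * t₁ * g⁻¹ = t₁ := by
      have h := mul_inv_eq_one.1 e
      rw [show g * t₁ * g⁻¹ = (t₁ * g * t₁⁻¹) * t₁ * g⁻¹ from by rw [show (t₁ * g * t₁⁻¹) = g from h]]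
      group
    rw [e1, ht₁]; exact hS.t'_mem T
  · have e1 : g * t₁ * g⁻¹ = t⁻¹ * t₁ := by
      show (gH : G) * t₁ * (gH : G)⁻¹ = t⁻¹ * t₁
      rw [← e]; group
    rw [e1, inv_eq_of_mul_eq_one_right (hS.t_sq T), ht₁]
    exact mul_mem (hS.t_mem T) (hS.t'_mem T)

/-- The involutions of the first class in the centraliser of the involution. -/
theorem Seed.invol_cent_t {x : G} (hxt : x * t = t * x) :
    (x * x = 1 ∧ IsConj z x) ↔ (x ∈ hS.H T ∧ x * x = 1 ∧ x ≠ 1) := by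
  constructor
  · rintro ⟨hx2, hz⟩
    obtain ⟨b, hb⟩ := hS.exists_seven T P
    have hV := hS.cent_of_conj T hxt hx2 hz (hS.norm_of_cent T P hxt)
    obtain ⟨v, hv, h, hh, e⟩ := hb.cent_V0 T hS P hV
    refine ⟨hS.eq_of_prod T hv hh P e hx2 hz ▸ hh, hx2, fun e1 => ?_⟩
    obtain ⟨g, hg⟩ := isConj_iff.1 hz
    rw [e1, conj_eq_one_iff] at hg
    exact D.pre.gen.ne_one hg
  · rintro ⟨hx, hx2, hx1⟩
    obtain ⟨l, -, hl⟩ := hS.one_class T P hx hx2 hx1
    exact ⟨hx2, isConj_iff.2 ⟨l, hl⟩⟩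

/-- The order of the centraliser of the involution. -/
theorem Seed.card_cent_t : Nat.card (centralizer ({t} : Set G)) = 161280 := by
  obtain ⟨b, hb⟩ := hS.exists_seven T P
  obtain ⟨σ, hσ, hσV, -, hσn⟩ := hS.exists_swap T
  have hVt : centralizer (hS.V0 T : Set G) ≤ centralizer ({t} : Set G) := fun x hx =>
    mem_centralizer_singleton_iff.2 ((hS.mem_cent T).1 hx).1
  rw [card_two_cosets hVt hσ.2 hσn fun x hx hxV => ?_]
  · rw [show 161280 = 2 * Nat.card (hS.V0 T × hS.H T) by rw [Nat.card_prod, hS.card_V0 T, hb.card_H]]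
    congr 1
    refine (Nat.card_eq_of_bijective (fun p : hS.V0 T × hS.H T => (⟨(p.1 : G) * p.2, mul_mem
      (mem_centralizer_iff.2 fun w hw => hS.V0_comm T hw p.1.2) p.2.2.2⟩ :
        centralizer (hS.V0 T : Set G))) ⟨?_, ?_⟩).symm
    · rintro ⟨⟨v, hv⟩, ⟨s, hs⟩⟩ ⟨⟨v', hv'⟩, ⟨s', hs'⟩⟩ e
      have e' : v * s = v' * s' := congrArg Subtype.val e
      have h1 : v'⁻¹ * v ∈ hS.V0 T ⊓ hS.H T := mem_inf.2 ⟨mul_mem (inv_mem hv') hv, by
        rw [show v'⁻¹ * v = v'⁻¹ * (v * s) * s⁻¹ by group, e', inv_mul_cancel_left]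
        exact mul_mem hs' (inv_mem hs)⟩
      rw [hS.V0_inf_H T, mem_bot, inv_mul_eq_one] at h1
      subst h1
      obtain rfl := mul_left_cancel e'
      rfl
    · rintro ⟨x, hx⟩
      obtain ⟨v, hv, h, hh, e⟩ := hb.cent_V0 T hS P hx
      exact ⟨(⟨v, hv⟩, ⟨h, hh⟩), Subtype.ext e.symm⟩
  · have hxt := mem_centralizer_singleton_iff.1 hx
    have hσt := (mem_CT.1 hσ).2
    have hσi : σ⁻¹ * t = t * σ⁻¹ := (show Commute σ t from hσt).inv_left.eq
    refine (hS.mem_cent T).2 ⟨by rw [mul_assoc, hxt, ← mul_assoc, hσi, mul_assoc], mul_inv_eq_iff_eq_mul.1 ?_⟩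
    have e1 := hS.swap_eq T hxt (hS.norm_of_cent T P hxt) hxV
    have e2 := hS.swap_eq T hσt (hσV _ (hS.t'_mem T)) hσn
    rw [show σ⁻¹ * x * (y * t * y⁻¹) * (σ⁻¹ * x)⁻¹ = σ⁻¹ * (x * (y * t * y⁻¹) * x⁻¹) * σ by group, e1, ← e2]
    group

end CfsgLib.SuzSeven
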