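import Cfsg.Agent.SuzOrder.Model

/-!
The images in the automorphism group of the involutions of the first class in the centraliser, and the count
of those whose product with an involution of the second class has the central involution among its powers.
-/

set_option autoImplicit false
set_option maxRecDepth 1000000
set_option maxHeartbeats 2000000

namespace CfsgLib.SuzOrder

open CfsgLib CfsgLib.Quad CfsgLib.SuzInvol CfsgLib.SuzThree

/-- The radical map on codes. -/
def uC (w m : ℕ) : ℕ :=
  (m ^^^ (if bN (if bN m 1 then m ^^^ 4 else m) w then 1 else 0)) ^^^ (if bN m 1 then w else 0)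

/-- The automorphisms induced by the radical part over a code. -/
def pA (w : ℕ) (e : Bool) : List ℕ :=
  idA.map fun k => if k = 4 then mk128 (uC w 4) e else if bN k w then m128 65 k else k

/-- The automorphisms over a pair of coordinates. -/
def repA (w v : ℕ) (e : Bool) : List ℕ := compA (pA (if qN w then w ^^^ 1 else w) e) (inA v)

/-- Words moving the singular point to every other. -/
def transW : List (List ℕ) := [[5, 5], [13, 14], [5, 7], [5, 10], [7, 10], [7, 14], [5, 13], [7, 13], [5, 14], [5, 20], [5, 22], [7, 28], [5, 31], [5, 28], [7, 31], [5, 36], [5, 38], [7, 44], [5, 47], [5, 44], [7, 47], [5, 52], [5, 54], [7, 60], [5, 63], [5, 60], [7, 63]]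

/-- The word of an index. -/
def wordI (i : ℕ) : List ℕ := transW.getD (i / 2) []

/-- The automorphism over a word with trivial bits. -/
def wordA (w : List ℕ) : List ℕ := idA.map (aN w)

/-- Its inverse. -/
def wordInv (w : List ℕ) : List ℕ := (idA.map (aN w.reverse)).map fun k => mk128 k (hi (apA (wordA w) k))

/-- The transversal. -/
def trA (i : ℕ) : List ℕ :=
  if i % 2 = 0 then wordA (wordI i) else compA (wordA (wordI i)) (inA 4)

/-- Its inverse. -/
def trInv (i : ℕ) : List ℕ :=
  if i % 2 = 0 then wordInv (wordI i) else compA (inA 4) (wordInv (wordI i))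

/-- The parameters with singular value. -/
def singW : List ℕ := [0, 2, 8, 26, 42, 58]

/-- A conjugate of a radical automorphism. -/
def genA (i k : ℕ) (e : Bool) : List ℕ := compA (trA i) (compA (pA (singW.getD k 0) e) (trInv i))

/-- Witnesses for the images outside the inner automorphisms. -/
def witL : List (ℕ × ℕ × Bool) := [(0, 1, false), (0, 1, true), (0, 2, false), (0, 2, true), (0, 3, false), (0, 3, true), (0, 4, false), (0, 4, true), (0, 5, false), (0, 5, true), (1, 1, false), (1, 1, true), (1, 2, false), (1, 2, true), (1, 3, false), (1, 3, true), (1, 4, false), (1, 4, true), (1, 5, false), (1, 5, true), (2, 2, false), (2, 2, true), (2, 3, false), (2, 3, true), (2, 4, false), (2, 4, true), (2, 5, false), (2, 5, true), (3, 2, false), (3, 2, true), (3, 3, false), (3, 3, true), (3, 4, false), (3, 4, true), (3, 5, false), (3, 5, true), (4, 2, false), (4, 2, true), (4, 3, false), (4, 3, true), (4, 4, false), (4, 4, true), (4, 5, false), (4, 5, true), (5, 2, false), (5, 2, true), (5, 3, false), (5, 3, true), (5, 4, false), (5, 4, true), (5, 5, false), (5,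 5, true), (6, 1, false), (6, 1, true), (6, 3, false), (6, 3, true), (6, 4, false), (6, 4, true), (6, 5, false), (6, 5, true), (7, 1, false), (7, 1, true), (7, 3, false), (7, 3, true), (7, 4, false), (7, 4, true), (7, 5, false), (7, 5, true), (8, 1, false), (8, 1, true), (8, 3, false), (8, 3, true), (8, 4, false), (8, 4, true), (8, 5, false), (8, 5, true), (9, 1, false), (9, 1, true), (9, 3, false), (9, 3, true), (9, 4, false), (9, 4, true), (9, 5, false), (9, 5, true), (10, 3, false), (10, 3, true), (10, 4, false), (10, 4, true), (10, 5, false), (10, 5, true), (11, 3, false), (11, 3, true), (11, 4, false), (11, 4, true), (11, 5, false), (11, 5, true), (12, 3, false), (12, 3, true), (12, 4, false), (12, 4, true), (12, 5, false), (12, 5, true), (13, 3, false), (13, 3, true), (13, 4, false), (13, 4, true), (13, 5, false), (13, 5, true), (14, 3, false), (14, 3, true), (14, 4, false), (14, 4, true), (14, 5, false), (14, 5, true), (15, 3, false), (15, 3, true), (15, 4, false), (15, 4, true), (15, 5, false), (15, 5, true), (16, 3, false), (16, 3, true), (16, 4, false),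 (16, 4, true), (16, 5, false), (16, 5, true), (17, 3, false), (17, 3, true), (17, 4, false), (17, 4, true), (17, 5, false), (17, 5, true), (18, 4, false), (18, 4, true), (18, 5, false), (18, 5, true), (19, 4, false), (19, 4, true), (19, 5, false), (19, 5, true), (20, 4, false), (20, 4, true), (20, 5, false), (20, 5, true), (21, 4, false), (21, 4, true), (21, 5, false), (21, 5, true), (22, 4, false), (22, 4, true), (22, 5, false), (22, 5, true), (23, 4, false), (23, 4, true), (23, 5, false), (23, 5, true), (24, 4, false), (24, 4, true), (24, 5, false), (24, 5, true), (25, 4, false), (25, 4, true), (25, 5, false), (25, 5, true), (26, 4, false), (26, 4, true), (26, 5, false), (26, 5, true), (27, 4, false), (27, 4, true), (27, 5, false), (27, 5, true), (28, 4, false), (28, 4, true), (28, 5, false), (28, 5, true), (29, 4, false), (29, 4, true), (29, 5, false), (29, 5, true)]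

/-- The singular nonzero codes. -/
def singN : List ℕ := (List.range 64).filter fun n => !qN n && (n != 0)

/-- The images of the involutions of the first class. -/
def zImg : List (List ℕ) := singN.map inA ++ witL.map fun p => genA p.1 p.2.1 p.2.2

/-- The coordinates of the involutions of the Sylow subgroup. -/
def sPairs : List (ℕ × ℕ) := [(0, 2), (2, 0), (2, 2), (0, 8), (8, 0), (8, 8)]

/-- The images of the involutions of the first class commuting with the standard one. -/
def sImg : List (List ℕ) := inA 1 :: sPairs.flatMap fun p => [repA p.1 p.2 false, repA p.1 p.2 true]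

/-- The images of the involutions to be avoided. -/
def badL (t : List ℕ) : List (List ℕ) := sImg ++ (t :: sImg.map (compA t))

/-- Powers. -/
def powA (X : List ℕ) : ℕ → List ℕ
  | 0 => idA
  | k + 1 => compA (powA X k) X

/-- A power is to be avoided. -/
def isBad (t X : List ℕ) : Bool := (List.range 8).any fun k => (badL t).contains (powA X k)

/-- The images with good product. -/
def goodL (e : Bool) : List (List ℕ) :=
  zImg.filter fun A => !isBad (repA 16 32 e) (compA A (repA 16 32 e))

theorem trans_facts : ∀ i : Fin 54, okL (wordI i.val) = true ∧ (wordI i.val).length % 2 = 0 ∧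
    compA (wordA (wordI i.val)) (wordInv (wordI i.val)) = idA ∧ compA (trA i.val) (trInv i.val) = idA ∧
    (∀ j : Fin 6, (wordA (wordI i.val)).getD j.val 0 = aN (wordI i.val) (2 ^ j.val) ∧
      (wordInv (wordI i.val)).getD j.val 0 < 128 ∧
      (wordInv (wordI i.val)).getD j.val 0 % 64 = aN (wordI i.val).reverse (2 ^ j.val)) ∧
    okL (wordI i.val).reverse = true := by decide +kernel

theorem trans_surj : ∀ n : Fin 128, qN (n.val % 64) = false → n.val % 64 ≠ 0 →
    ∃ i : Fin 54, apA (trA i.val) 1 = n.val := by decide +kernel

theorem singW_facts : (∀ n : Fin 64, Adm (vec n.val) → qf (vec n.val) = 0 → ∃ k : Fin 6, singW.getD k.val 0 = n.val) ∧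
    ∀ k : Fin 6, singW.getD k.val 0 < 64 ∧ Adm (vec (singW.getD k.val 0)) ∧ qf (vec (singW.getD k.val 0)) = 0 := by
  decide +kernel

theorem gen_mem : ∀ i : Fin 54, ∀ k : Fin 6, ∀ e : Bool,
    genA i.val k.val e = idA ∨ zImg.contains (genA i.val k.val e) = true := by decide +kernel

theorem wit_lt : ∀ p ∈ witL, p.1 < 54 ∧ p.2.1 < 6 := by decide +kernel

theorem zImg_nodup : zImg.Nodup := by decide +kernel

theorem zImg_ne : idA ∉ zImg := by decide +kernel

theorem bad_facts : ∀ e : Bool, idA ∉ badL (repA 16 32 e) ∧ (goodL e).length = 118 ∧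
    ∀ A ∈ zImg, ∃ k : Fin 8, 0 < k.val + 1 ∧ powA (compA A (repA 16 32 e)) (k.val + 1) = idA := by decide +kernel

theorem singN_facts : (∀ n ∈ singN, n < 64 ∧ qN n = false ∧ n ≠ 0) ∧
    ∀ n : Fin 64, qN n.val = false → n.val ≠ 0 → n.val ∈ singN := by decide +kernel

theorem pA_facts : (∀ m : Fin 64, Adm (vec m.val) → ∀ e : Bool, compA (pA m.val e) (inA 1) = pA m.val (!e)) ∧
    (∀ m : Fin 64, uMap (vec m.val) (vec 4) = vec (uC m.val 4) ∧ uC m.val 4 < 64) ∧
    (∀ m : Fin 64, ∀ i : Fin 6, ∀ e : Bool, (pA m.val e).getD i.val 0 =
      if i.val = 2 then mk128 (uC m.val 4) e else if bN (2 ^ i.val) m.val then m128 65 (2 ^ i.val) else 2 ^ i.val) ∧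
    (∀ i : Fin 6, i.val ≠ 2 → bN (2 ^ i.val) 1 = false) := by decide +kernel

theorem rep_facts : (∀ n : Fin 64, ∀ w : Fin 64, Adm (vec n.val) → red (vec n.val) = vec w.val →
      n.val = if qN w.val then w.val ^^^ 1 else w.val) ∧
    (∀ n : Fin 64, ∀ v : Fin 64, bf (vec n.val) e0 = 0 → red (vec n.val) = vec v.val →
      n.val = v.val ∨ n.val = v.val ^^^ 1) ∧
    (∀ m : Fin 64, Adm (vec m.val) → ∀ v : Fin 64, ∀ e : Bool,
      compA (pA m.val e) (inA (v.val ^^^ 1)) = compA (pA m.val (!e)) (inA v.val)) := by decide +kernel

end CfsgLib.SuzOrder
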