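import Cfsg.Agent.SuzOrder.CentT
import Cfsg.Agent.SuzOrder.Calc

/-!
The involutions of the first class in the centraliser whose product with the standard involution of the
second class has the central involution among its powers: there are 236.
-/

set_option autoImplicit false
set_option linter.style.haveILetI false
set_option maxRecDepth 100000

namespace CfsgLib.SuzOrder

open CfsgLib CfsgLib.Quad CfsgLib.SuzInvol CfsgLib.SuzThree CfsgLib.SuzSeven Subgroup
open CfsgLib.SuzEleven (cX)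
open Cfsg.Agent.McLU43 (K9)

local notation "PSU4" => Cfsg.PSU 4 K9 3

variable {G : Type*} [Group G] [Finite G] {z : G} {D : Dat z} (co : Co D)

set_option synthInstance.maxSize 2000 in
set_option synthInstance.maxHeartbeats 200000 in
theorem kF_pairs : (∀ i j, bS (kF i) (kF j) = 0 → bT (kF i) (kF j) = 0 →
      (kF i = 0 ∧ kF j = 0) ∨ ∃ p ∈ sPairs, kF i = vec p.1 ∧ kF j = vec p.2) ∧
    ∀ p ∈ sPairs, ∃ i j, kF i = vec p.1 ∧ kF j = vec p.2 ∧ bS (kF i) (kF j) = 0 ∧ bT (kF i) (kF j) = 0 ∧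
      p.1 < 64 ∧ p.2 < 64 ∧ vec p.1 ∈ wList ∧ vec p.2 ∈ wList := by decide +kernel

omit [Finite G] in
/-- A central multiple induces the same automorphism. -/
theorem Co.act_zmul {x c : G} {A : List ℕ} (h : co.Act x A) (hc : c = 1 ∨ c = z) : co.Act (c * x) A := by
  have hcC : c ∈ centralizer ({z} : Set G) := by
    rcases hc with rfl | rfl
    · exact one_mem _
    · exact mem_centralizer_singleton_iff.2 rfl
  refine ⟨mul_mem hcC h.1, h.2.1, fun i hi' => ?_⟩
  rw [← h.2.2 i hi', show c * x * co.q i * (c * x)⁻¹ = c * (x * co.q i * x⁻¹) * c⁻¹ by group, h.2.2 i hi']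
  rcases hc with rfl | rfl
  · group
  · rw [← co.el_z, mul_inv_cancel_right]

omit [Finite G] in
theorem Co.act_z : co.Act z idA := by simpa using co.act_zmul co.act_one (Or.inr rfl)

omit [Finite G] in
/-- Elements inducing the same automorphism. -/
theorem Co.act_eq {x x' : G} {A : List ℕ} (h : co.Act x A) (h' : co.Act x' A) : x' = x ∨ x' = x * z := by
  have hid : co.Act (x⁻¹ * x') idA := by
    refine ⟨mul_mem (inv_mem h.1) h'.1, co.act_one.2.1, fun i hi' => ?_⟩
    rw [show x⁻¹ * x' * co.q i * (x⁻¹ * x')⁻¹ = x⁻¹ * (x' * co.q i * x'⁻¹) * x by group, h'.2.2 i hi',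
      ← h.2.2 i hi', show x⁻¹ * (x * co.q i * x⁻¹) * x = 1 * co.q i * 1⁻¹ by group]
    exact co.act_one.2.2 i hi'
  rcases co.act_id hid with e | e
  · exact Or.inl (inv_mul_eq_one.1 e).symm
  · exact Or.inr (inv_mul_eq_iff_eq_mul.1 e)

omit [Finite G] in
theorem Co.act_pow {x : G} {A : List ℕ} (h : co.Act x A) : ∀ n, co.Act (x ^ n) (powA A n)
  | 0 => by rw [pow_zero, powA]; exact co.act_one
  | n + 1 => by rw [pow_succ, powA]; exact co.act_mul (Co.act_pow h n) h

variable {B : Base D} (hq0 : co.q 0 = B.s)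
include hq0

omit [Finite G] in
theorem Co.el_one : co.el 1 = B.s := by
  rw [show (1 : ℕ) = 2 ^ 0 from rfl, co.el_basis 0 (by norm_num), hq0]

/-- The automorphisms induced by the radical part. -/
theorem Co.pA_act {b : G} (hb : b ∈ B.P) {w : ℕ} (hw : w < 64) (e : vec w = B.wv b) :
    ∃ ε, co.Act b (pA w ε) := by
  obtain ⟨hadm, hu⟩ := B.act_P hb
  obtain ⟨-, f2, f3, f4⟩ := pA_facts
  obtain ⟨hu4, hlt⟩ := f2 ⟨w, hw⟩
  simp only at hu4 hlt
  have hbC : b ∈ centralizer ({z} : Set G) := hb.2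
  obtain ⟨n, hn, en⟩ := co.el_surj (conj_mem_Q D hbC (co.mem 2))
  have hn64 : n % 64 = uC w 4 := by
    refine vec_inj (Nat.mod_lt _ (by norm_num)) hlt ?_
    rw [← co.π_el, en, actG_π D hbC (co.mem 2), co.πq 2 (by norm_num), actG_eq D hbC, hu, ← e]
    exact hu4
  refine ⟨hi n, hbC, ?_, ?_⟩
  · refine ⟨by simp [pA, idA], fun i hi' => ?_⟩
    rw [f3 ⟨w, hw⟩ ⟨i, hi'⟩ (hi n)]
    split
    · exact (mk128_facts _ hlt _).1
    · split
      · exact m128_lt _ _
      · exact lt_trans (Nat.pow_lt_pow_right (by norm_num) hi' : 2 ^ i < 2 ^ 6) (by norm_num)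
  intro i hi'
  rw [f3 ⟨w, hw⟩ ⟨i, hi'⟩ (hi n)]
  by_cases h2 : i = 2
  · subst h2
    rw [if_pos rfl, ← hn64, split128 n hn, en]
  · rw [if_neg h2]
    have h64 : 2 ^ i < 64 := (Nat.pow_lt_pow_right (by norm_num) hi' : 2 ^ i < 2 ^ 6)
    have hA : co.q i ∈ B.A := B.mem_A.2 ⟨co.mem i, by
      rw [co.πq i hi', ← vec1, bf_vec ⟨_, h64⟩ ⟨1, by norm_num⟩, f4 ⟨i, hi'⟩ h2]
      rfl⟩
    have hbf : bf (D.π (co.q i)) (B.wv b) = if bN (2 ^ i) w then 1 else 0 := by
      rw [co.πq i hi', ← e]; exact bf_vec ⟨_, h64⟩ ⟨w, hw⟩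
    have hcm := B.eq_of_bits (B.cm_mem hb hA) (bf (D.π (co.q i)) (B.wv b)) (B.σ_cm hb hA)
      (B.ζ_cm_eq hb _ hA)
    calc b * co.q i * b⁻¹ = cm b (co.q i) * co.q i := by simp only [cm]; group
      _ = _ := by
        rw [hcm, hbf]
        cases bN (2 ^ i) w
        · simp [co.el_basis i hi']
        · simp only [if_true, one_ne_zero, if_false]
          rw [← co.el_mul, co.el_basis i hi', show (65 : ℕ) = m128 1 64 by decide, ← co.el_mul, co.el_one hq0,
            co.el_sixty.1, (D.pre.gen.comm_z _ B.sQ).eq]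

/-- Both automorphisms over a parameter occur. -/
theorem Co.pA_exists {w : ℕ} (hw : w < 64) (hadm : Adm (vec w)) (e : Bool) :
    ∃ b ∈ B.P, B.wv b = vec w ∧ co.Act b (pA w e) := by
  obtain ⟨b, hb, hbw⟩ := B.wv_surj hadm
  obtain ⟨ε, hε⟩ := co.pA_act hq0 hb hw hbw.symm
  by_cases he : ε = e
  · exact ⟨b, hb, hbw, he ▸ hε⟩
  · have he' : (!ε) = e := by cases ε <;> cases e <;> simp_all
    obtain ⟨hsV, hsP⟩ := B.inV_of (y := B.s) (Or.inr (Or.inr (Or.inl rfl)))
    have hsPm : B.s ∈ B.P := Subgroup.mem_inf.2 ⟨hsP, SuzInvol.mem_C D B.sQ⟩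
    refine ⟨b * B.s, mul_mem hb hsPm, ?_, ?_⟩
    · refine (adm_eq (B.act_P (mul_mem hb hsPm)).1 hadm ?_)
      rw [wv_mul hb hsPm, wv_inV hsV, add_zero, hbw]
    · have h := co.act_mul hε (co.act_inner (m := 1) (by norm_num))
      rw [co.el_one hq0, pA_facts.1 ⟨w, hw⟩ hadm ε, he'] at h
      exact h

/-- The automorphism of an element with given coordinates. -/
theorem Co.rep_act {x : G} {w v : ℕ} (hw : w < 64) (hv : v < 64) (h : Rep B x (vec w) (vec v)) :
    ∃ e, co.Act x (repA w v e) := by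
  obtain ⟨b, a, hb, ha, rfl, hwb, hva⟩ := h
  obtain ⟨n, hn, en⟩ := exists_code (B.wv b)
  obtain ⟨m, hm, rfl⟩ := co.el_surj ha.1
  obtain ⟨f1, f2, f3⟩ := rep_facts
  have hadm := (B.act_P hb).1
  have hnw : n = if qN w then w ^^^ 1 else w :=
    f1 ⟨n, hn⟩ ⟨w, hw⟩ (show Adm (vec n) from en ▸ hadm) (show red (vec n) = vec w by rw [en]; exact hwb)
  obtain ⟨ε, hε⟩ := co.pA_act hq0 hb hn en
  have hin : inA m = inA (m % 64) := by simp [inA, Nat.mod_mod]
  have h1 := co.act_mul hε (co.act_inner hm)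
  rw [hin] at h1
  have hm64 : m % 64 < 64 := Nat.mod_lt _ (by norm_num)
  rcases f2 ⟨_, hm64⟩ ⟨v, hv⟩ (show bf (vec (m % 64)) e0 = 0 by rw [← co.π_el]; exact (B.mem_A.1 ha).2)
      (show red (vec (m % 64)) = vec v by rw [← co.π_el]; exact hva) with e | e <;> simp only at e <;> rw [e] at h1
  · exact ⟨ε, by rw [repA, ← hnw]; exact h1⟩
  · rw [f3 ⟨n, hn⟩ (show Adm (vec n) from en ▸ hadm) ⟨v, hv⟩ ε] at h1
    exact ⟨!ε, by rw [repA, ← hnw]; exact h1⟩

omit [Finite G] hq0 in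
/-- The transversal is realised. -/
theorem Co.trA_real (i : Fin 54) :
    ∃ c d : G, co.Act c (trA i.val) ∧ co.Act d (trInv i.val) ∧ (c * d = 1 ∨ c * d = z) := by
  obtain ⟨ok, hev, -, hid, hget, okr⟩ := trans_facts i
  set w := wordI i.val
  have p1 : oW w ∈ commutator (oGroup q6) := (parity_mem ok).2 (Nat.even_iff.2 hev)
  have p2 : oW w.reverse ∈ commutator (oGroup q6) :=
    (parity_mem okr).2 (by rw [List.length_reverse]; exact Nat.even_iff.2 hev)
  have h2 : ∀ j, j < 6 → 2 ^ j < 64 := fun j hj => Nat.pow_lt_pow_right (by norm_num) hj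
  obtain ⟨c₀, hc₀, -⟩ := co.realise p1 (A := wordA w)
    ⟨by simp [wordA, idA], fun j hj => by
      rw [(hget ⟨j, hj⟩).1]; exact lt_trans (aN_lt ok (h2 j hj)) (by norm_num)⟩
    (fun j hj => by rw [oW_apply ok (h2 j hj), (hget ⟨j, hj⟩).1, Nat.mod_eq_of_lt (aN_lt ok (h2 j hj))])
  obtain ⟨d₀, hd₀, -⟩ := co.realise p2 (A := wordInv w)
    ⟨by simp [wordInv, idA], fun j hj => (hget ⟨j, hj⟩).2.1⟩
    (fun j hj => by rw [oW_apply okr (h2 j hj), (hget ⟨j, hj⟩).2.2])
  have hq := co.act_inner (m := 4) (by norm_num)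
  have key : ∀ {c d : G}, co.Act c (trA i.val) → co.Act d (trInv i.val) → c * d = 1 ∨ c * d = z :=
    fun hc hd => co.act_id (hid ▸ co.act_mul hc hd)
  by_cases hp : i.val % 2 = 0
  · have hc : co.Act c₀ (trA i.val) := by rw [trA, if_pos hp]; exact hc₀
    have hd : co.Act d₀ (trInv i.val) := by rw [trInv, if_pos hp]; exact hd₀
    exact ⟨_, _, hc, hd, key hc hd⟩
  · have hc : co.Act (c₀ * co.el 4) (trA i.val) := by rw [trA, if_neg hp]; exact co.act_mul hc₀ hq
    have hd : co.Act (co.el 4 * d₀) (trInv i.val) := by rw [trInv, if_neg hp]; exact co.act_mul hq hd₀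
    exact ⟨_, _, hc, hd, key hc hd⟩

omit [Finite G] hq0 in
theorem Co.act_inv_of {c d : G} {A A' : List ℕ} (hc : co.Act c A) (hd : co.Act d A')
    (h : c * d = 1 ∨ c * d = z) : co.Act c⁻¹ A' := by
  rcases h with h | h
  · rwa [eq_inv_of_mul_eq_one_right h] at hd
  · have h1 : c⁻¹ = z * d := by
      rw [eq_inv_mul_iff_mul_eq.2 h, ← mul_assoc, ← mem_centralizer_singleton_iff.1 (inv_mem hc.1), mul_assoc,
        D.pre.gen.sq, mul_one]
    rw [h1]
    exact co.act_zmul hd (Or.inr rfl)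

/-- The images of the involutions of the first class. -/
theorem Co.class_act {y t : G} (T : Three D y) (hS : Seed B y t) {u : G}
    (hu : u ∈ centralizer ({z} : Set G)) (hu2 : u * u = 1) (huz : IsConj z u) (hne : u ≠ z) :
    ∃ A ∈ zImg, co.Act u A := by
  have hu1 : u ≠ 1 := fun e => by
    obtain ⟨g, hg⟩ := isConj_iff.1 huz
    rw [e, conj_eq_one_iff] at hg
    exact D.pre.gen.ne_one hg
  by_cases huQ : u ∈ D.Q
  · obtain ⟨n, hn, rfl⟩ := co.el_surj huQ
    have hm : n % 64 < 64 := Nat.mod_lt _ (by norm_num)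
    have h0 : qN (n % 64) = false := by
      have h := (D.sq_iff _ huQ).1 hu2
      rw [co.π_el, vec_facts.2 ⟨_, hm⟩] at h
      revert h
      cases qN (n % 64) <;> simp
    have h1 : n % 64 ≠ 0 := fun e => by
      have hp : D.π (co.el n) = 0 := by rw [co.π_el, e]; decide +kernel
      exact ((D.π_eq_zero _ huQ).1 hp).elim hu1 hne
    refine ⟨inA (n % 64), List.mem_append_left _ (List.mem_map.2 ⟨_, singN_facts.2 ⟨_, hm⟩ h0 h1, rfl⟩), ?_⟩
    have h := co.act_inner hn
    rwa [show inA n = inA (n % 64) by simp [inA, Nat.mod_mod]] at h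
  · obtain ⟨S1⟩ := B.exists_std
    obtain ⟨k, hk, hkz, huk⟩ := (S1.classify hu huQ hu2).resolve_right fun ⟨c, _, hc⟩ =>
      S1.not_conj (huz.trans (isConj_iff.2 ⟨c, hc⟩).symm)
    obtain ⟨n, hn, en⟩ := co.el_surj hk
    have hm : n % 64 < 64 := Nat.mod_lt _ (by norm_num)
    have h0 : qN (n % 64) = false := by
      have h := (D.sq_iff _ hk).1 (by
        rw [show k * z * k⁻¹ * (k * z * k⁻¹) = k * (z * z) * k⁻¹ by group, D.pre.gen.sq]; group)
      rw [← en, co.π_el, vec_facts.2 ⟨_, hm⟩] at h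
      revert h
      cases qN (n % 64) <;> simp
    have h1 : n % 64 ≠ 0 := fun e => by
      have hp : D.π (co.el n) = 0 := by rw [co.π_el, e]; decide +kernel
      refine ((D.π_eq_zero _ (co.el_mem n)).1 hp).elim (fun e' => ?_) fun e' => hkz (en ▸ e')
      exact D.pre.gen.ne_one (conj_eq_one_iff.1 (en.symm.trans e'))
    obtain ⟨i, hi⟩ := trans_surj ⟨n, hn⟩ h0 h1
    obtain ⟨c, d, hc, hd, hcd⟩ := co.trA_real i
    have hcs : c * B.g * z * (c * B.g)⁻¹ = k * z * k⁻¹ := by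
      rw [show c * B.g * z * (c * B.g)⁻¹ = c * (B.g * z * B.g⁻¹) * c⁻¹ by group, B.gz, ← co.el_one hq0,
        (co.act_el hc 1).1, hi, en]
    rw [← conjQ_congr D hcs, mem_conjQ] at huk
    have hbP : c⁻¹ * u * c ∈ B.P := by
      refine Subgroup.mem_inf.2 ⟨(mem_conjQ D).2 ?_, mul_mem (mul_mem (inv_mem hc.1) hu) hc.1⟩
      rwa [show B.g⁻¹ * (c⁻¹ * u * c) * B.g = (c * B.g)⁻¹ * u * (c * B.g) by group]
    have hb2 : c⁻¹ * u * c * (c⁻¹ * u * c) = 1 := by
      rw [show c⁻¹ * u * c * (c⁻¹ * u * c) = c⁻¹ * (u * u) * c by group, hu2]; group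
    obtain ⟨w, hw, ew⟩ := exists_code (B.wv (c⁻¹ * u * c))
    have hq : qf (B.wv (c⁻¹ * u * c)) = 0 := by
      rw [← (B.sq_P hbP).2.1, hb2]; exact B.bits.2.2.2.2.1
    obtain ⟨j, hj⟩ := singW_facts.1 ⟨w, hw⟩ (show Adm (vec w) from ew ▸ (B.act_P hbP).1)
      (show qf (vec w) = 0 by rw [ew, hq])
    simp only at hj
    obtain ⟨ε, hε⟩ := co.pA_act hq0 hbP hw ew
    have hA : co.Act u (genA i.val j.val ε) := by
      have h := co.act_mul hc (co.act_mul hε (co.act_inv_of hc hd hcd))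
      rw [show c * (c⁻¹ * u * c * c⁻¹) = u by group, ← hj] at h
      exact h
    rcases gen_mem i j ε with e | e
    · exact absurd (co.act_id (e ▸ hA)) (by rintro (e' | e') <;> [exact hu1 e'; exact hne e'])
    · exact ⟨_, List.elem_iff.1 e, hA⟩

/-- Each image has lifts. -/
theorem Co.exists_lift {A : List ℕ} (hA : A ∈ zImg) :
    ∃ u, u ∈ centralizer ({z} : Set G) ∧ u * u = 1 ∧ co.Act u A ∧ IsConj z u ∧ IsConj z (u * z) := by
  have hne1 : ∀ {u : G}, co.Act u A → u ≠ 1 ∧ u ≠ z := fun h => by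
    constructor <;> intro e <;> subst e
    · exact zImg_ne (co.act_unique h co.act_one ▸ hA)
    · exact zImg_ne (co.act_unique h co.act_z ▸ hA)
  rcases List.mem_append.1 hA with h | h
  · obtain ⟨n, hn, rfl⟩ := List.mem_map.1 h
    obtain ⟨hn64, hq, -⟩ := singN_facts.1 n hn
    have hact := co.act_inner (m := n) (by omega)
    have h2 : co.el n * co.el n = 1 := (D.sq_iff _ (co.el_mem n)).2 (by
      rw [co.π_el, Nat.mod_eq_of_lt hn64, vec_facts.2 ⟨n, hn64⟩]; simp [hq])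
    obtain ⟨g1, g2⟩ := hne1 hact
    refine ⟨co.el n, SuzInvol.mem_C D (co.el_mem n), h2, hact, conj_of_mem_Q B (co.el_mem n) h2 g1,
      conj_of_mem_Q B (mul_mem (co.el_mem n) D.pre.gen.mem) ?_ fun e => g2 ?_⟩
    · calc co.el n * z * (co.el n * z) = co.el n * (z * co.el n) * z := by group
        _ = co.el n * co.el n * (z * z) := by rw [← co.el_z]; group
        _ = 1 := by rw [h2, D.pre.gen.sq, one_mul]
    · rw [eq_inv_of_mul_eq_one_left e, inv_eq_of_mul_eq_one_right D.pre.gen.sq]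
  · obtain ⟨⟨i, k, e⟩, hp, rfl⟩ := List.mem_map.1 h
    obtain ⟨hi54, hk6⟩ := wit_lt _ hp
    obtain ⟨hlt, hadm, hq⟩ := singW_facts.2 ⟨k, hk6⟩
    simp only at hi54 hk6 hlt hadm hq
    obtain ⟨b, hb, hbw, hbA⟩ := co.pA_exists hq0 hlt hadm e
    obtain ⟨c, d, hc, hd, hcd⟩ := co.trA_real ⟨i, hi54⟩
    obtain ⟨hV, hσ, hζ⟩ := B.sq_P hb
    rw [hbw, hq] at hσ
    have hb2 : b * b = 1 := by rw [B.eq_of_bits hV 0 hσ hζ, if_pos rfl]
    have hact : co.Act (c * (b * c⁻¹)) (genA i k e) := co.act_mul hc (co.act_mul hbA (co.act_inv_of hc hd hcd))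
    have hzP : z ∈ B.P := Subgroup.mem_inf.2 ⟨B.zg, mem_centralizer_singleton_iff.2 rfl⟩
    have hgz : B.g * z * B.g⁻¹ ∈ D.Q ∧ B.g * z * B.g⁻¹ ≠ z :=
      ⟨B.gz.symm ▸ B.sQ, fun e' => B.ne (B.gz.symm.trans e')⟩
    have hconj : ∀ v ∈ B.P, v * v = 1 → v ≠ 1 → IsConj z (c * (v * c⁻¹)) := fun v hv h2 h1 =>
      (B.isConj_of_sing ⟨B.g, hgz.1, hgz.2, hv.1⟩ h2 h1).trans (isConj_iff.2 ⟨c, by group⟩)
    obtain ⟨g1, g2⟩ := hne1 hact
    have hbz : b * z = z * b := (B.P_fix hb).1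
    have hcz : c⁻¹ * z = z * c⁻¹ := mem_centralizer_singleton_iff.1 (inv_mem hc.1)
    refine ⟨c * (b * c⁻¹), mul_mem hc.1 (mul_mem hb.2 (inv_mem hc.1)), ?_, hact,
      hconj b hb hb2 fun e' => g1 (by rw [e']; group), ?_⟩
    · rw [show c * (b * c⁻¹) * (c * (b * c⁻¹)) = c * (b * b) * c⁻¹ by group, hb2]; group
    · rw [show c * (b * c⁻¹) * z = c * (b * z * c⁻¹) by rw [mul_assoc b z, ← hcz]; group]
      refine hconj (b * z) (mul_mem hb hzP) ?_ fun e' => g2 ?_
      · calc b * z * (b * z) = b * (z * b) * z := by group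
          _ = b * b * (z * z) := by rw [← hbz]; group
          _ = 1 := by rw [hb2, D.pre.gen.sq, one_mul]
      · rw [eq_inv_of_mul_eq_one_left e', inv_eq_of_mul_eq_one_right D.pre.gen.sq, ← hcz]; group

/-- The images of the involutions of the Sylow subgroup. -/
theorem Co.s_act {y t : G} (T : Three D y) (hS : Seed B y t) {x : G} (hx : x ∈ hS.S T) (hx2 : x * x = 1)
    (hx1 : x ≠ 1) (hxz : x ≠ z) : ∃ A ∈ sImg, co.Act x A := by
  obtain ⟨i, j, h⟩ := (hS.mem_S T).1 hx
  obtain ⟨c1, c2⟩ := h.invol_iff.1 hx2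
  rcases kF_pairs.1 i j c1 c2 with ⟨e1, e2⟩ | ⟨p, hp, e1, e2⟩
  · rw [e1, e2] at h
    have hs := co.act_inner (m := 1) (by norm_num)
    rw [co.el_one hq0] at hs
    rcases B.inV_cases h.inV_of_zero with e | e | e | e
    · exact absurd e hx1
    · exact absurd e hxz
    · exact ⟨_, List.mem_cons_self, e ▸ hs⟩
    · exact ⟨_, List.mem_cons_self, e ▸ co.act_zmul hs (Or.inr rfl)⟩
  · obtain ⟨-, -, -, -, -, -, l1, l2, -⟩ := kF_pairs.2 p hp
    rw [e1, e2] at h
    obtain ⟨ε, hε⟩ := co.rep_act hq0 l1 l2 h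
    refine ⟨_, List.mem_cons_of_mem _ (List.mem_flatMap.2 ⟨p, hp, ?_⟩), hε⟩
    cases ε <;> simp

/-- Each such image has lifts in the Sylow subgroup. -/
theorem Co.s_lift {y t : G} (T : Three D y) (hS : Seed B y t) {A : List ℕ} (hA : A ∈ sImg) :
    ∃ x ∈ hS.S T, x * x = 1 ∧ co.Act x A := by
  have hmem : ∀ {x : G}, B.InV x → x ∈ hS.S T := fun {x} hx =>
    Ek_le_S (List.Mem.head _) T hS (Zv_le_Ek 1 hx)
  rcases List.mem_cons.1 hA with rfl | h
  · have hs := co.act_inner (m := 1) (by norm_num)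
    rw [co.el_one hq0] at hs
    exact ⟨B.s, hmem (B.inV_of (Or.inr (Or.inr (Or.inl rfl)))).1, B.s_sq, hs⟩
  · obtain ⟨p, hp, hA'⟩ := List.mem_flatMap.1 h
    obtain ⟨i, j, e1, e2, b1, b2, l1, l2, m1, m2⟩ := kF_pairs.2 p hp
    obtain ⟨x, hx⟩ := exists_rep (B := B) m1 m2
    obtain ⟨ε, hε⟩ := co.rep_act hq0 l1 l2 hx
    obtain ⟨hsV, hsP⟩ := B.inV_of (y := B.s) (Or.inr (Or.inr (Or.inl rfl)))
    have hx' := hx.mul (rep_inV hsV)
    rw [add_zero, add_zero] at hx'
    have hs := co.act_inner (m := 1) (by norm_num)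
    rw [co.el_one hq0] at hs
    have key : ∀ {x : G}, Rep B x (vec p.1) (vec p.2) → x ∈ hS.S T ∧ x * x = 1 := fun {x} h => by
      rw [← e1, ← e2] at h
      exact ⟨(hS.mem_S T).2 ⟨i, j, h⟩, h.invol_iff.2 ⟨b1, b2⟩⟩
    have hflip : compA (repA p.1 p.2 ε) (inA 1) = repA p.1 p.2 (!ε) := by
      have : ∀ q ∈ sPairs, ∀ e : Bool, compA (repA q.1 q.2 e) (inA 1) = repA q.1 q.2 (!e) := by decide +kernel
      exact this p hp ε
    have hx's := co.act_mul hε hs
    rw [hflip] at hx's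
    simp only [List.mem_cons, List.not_mem_nil, or_false] at hA'
    rcases hA' with rfl | rfl <;> cases ε
    · exact ⟨x, (key hx).1, (key hx).2, hε⟩
    · exact ⟨x * B.s, (key hx').1, (key hx').2, hx's⟩
    · exact ⟨x * B.s, (key hx').1, (key hx').2, hx's⟩
    · exact ⟨x, (key hx).1, (key hx).2, hε⟩

variable {y t : G} (T : Three D y) (hS : Seed B y t) {π : cX y →* PSU4} (P : SuzEleven.Pi T π)
include T hS P

/-- The count. -/
theorem Co.count_good :
    Nat.card {u : G // u ∈ centralizer ({z} : Set G) ∧ IsConj z u ∧ z ∈ zpowers (u * t)} = 236 := by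
  classical
  obtain ⟨ε, hεt⟩ := co.rep_act hq0 (by norm_num : 16 < 64) (by norm_num : 32 < 64) hS.rep
  obtain ⟨hid, hlen, hper⟩ := bad_facts ε
  set tA := repA 16 32 ε with htA
  have htz := hS.tz T
  have ht2 := hS.t_sq T
  have hz2 := D.pre.gen.sq
  have hcls2 : ∀ {u : G}, IsConj z u → u * u = 1 ∧ u ≠ 1 := fun {u} h => by
    obtain ⟨g, rfl⟩ := isConj_iff.1 h
    refine ⟨?_, fun e => D.pre.gen.ne_one (conj_eq_one_iff.1 e)⟩
    rw [show g * z * g⁻¹ * (g * z * g⁻¹) = g * (z * z) * g⁻¹ by group, hz2]; group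
  -- the criterion
  have crit : ∀ (u : G) (A : List ℕ), u ∈ centralizer ({z} : Set G) → IsConj z u → co.Act u A → A ∈ zImg →
      (z ∈ zpowers (u * t) ↔ isBad tA (compA A tA) = false) := by
    intro u A hu huz hA hAm
    obtain ⟨hu2, hu1⟩ := hcls2 huz
    have hd := co.act_mul hA hεt
    rw [← not_iff_not, Bool.not_eq_false, isBad, List.any_eq_true]
    simp only [List.mem_range, List.contains_iff_mem]
    constructor
    · intro hz
      have hev : Even (orderOf (u * t)) :=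
        Invol.even_orderOf_mul_of_not_isConj (orderOf_eq_prime (by rw [pow_two]; exact hu2) hu1)
          (orderOf_eq_prime (by rw [pow_two]; exact ht2) (hS.t_ne T)) fun h => hS.t_not T (huz.trans h)
      obtain ⟨m, hm⟩ := hev
      have hpos := orderOf_pos (u * t)
      obtain ⟨w, hwd⟩ : ∃ w, w = (u * t) ^ m := ⟨_, rfl⟩
      have hw2 : w * w = 1 := by rw [hwd, ← pow_add, ← hm, pow_orderOf_eq_one]
      have hw1 : w ≠ 1 := hwd ▸ pow_ne_one_of_lt_orderOf (by omega) (by omega)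
      have hwin : w ∈ zpowers (u * t) := hwd ▸ pow_mem (mem_zpowers _) m
      have hwz : w ≠ z := fun e => hz (e ▸ hwin)
      have hwC : w ∈ centralizer ({z} : Set G) := hwd ▸ pow_mem hd.1 m
      obtain ⟨c1, c2, hdih⟩ := dih_cases hu2 ht2 hw2 hw1 hwin
      have hwT : w ∈ CT z t := ⟨hwC, mem_centralizer_singleton_iff.2 c2⟩
      have hmem : ∃ M ∈ badL tA, co.Act w M := by
        by_cases hwc : IsConj z w
        · obtain ⟨M, hM, hMw⟩ := co.s_act hq0 T hS (hS.invol_CT T P hwT hw2 hwc) hw2 hw1 hwz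
          exact ⟨M, List.mem_append_left _ hM, hMw⟩
        · have hnu : ¬ IsConj u (w * u) := fun h =>
            hS.mul_not_conj T huz hwc hw2 hw1 c1.symm (c1 ▸ huz.trans h)
          have htw : IsConj z (w * t) := huz.trans (hdih.resolve_left hnu)
          obtain ⟨hwt2, hwt1⟩ := hcls2 htw
          have hwtT : w * t ∈ CT z t := mul_mem hwT (hS.t_CT T)
          have hw' : w = t * (w * t) := by rw [c2, ← mul_assoc, ht2, one_mul]
          by_cases hwtz : w * t = z
          · refine ⟨tA, List.mem_append_right _ List.mem_cons_self, ?_⟩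
            rw [hw', hwtz, htz]
            exact co.act_zmul hεt (Or.inr rfl)
          · obtain ⟨M, hM, hMw⟩ := co.s_act hq0 T hS (hS.invol_CT T P hwtT hwt2 htw) hwt2 hwt1 hwtz
            refine ⟨compA tA M, List.mem_append_right _ (List.mem_cons_of_mem _ (List.mem_map_of_mem hM)), ?_⟩
            rw [hw']
            exact co.act_mul hεt hMw
      obtain ⟨M, hM, hMw⟩ := hmem
      obtain ⟨k, -, hk⟩ := hper A hAm
      have hK := co.act_id (hk ▸ co.act_pow hd (k.val + 1))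
      refine ⟨m % (k.val + 1), lt_of_lt_of_le (Nat.mod_lt _ (by omega)) k.isLt, ?_⟩
      have hone : ∀ j, ((u * t) ^ (k.val + 1)) ^ j = 1 ∨ ((u * t) ^ (k.val + 1)) ^ j = z := fun j => by
        rcases hK with e | e <;> rw [e]
        · exact Or.inl (one_pow j)
        · rcases Nat.even_or_odd j with ⟨l, rfl⟩ | ⟨l, rfl⟩
          · left; rw [pow_add, ← (Commute.refl z).mul_pow, hz2, one_pow]
          · right; rw [pow_succ, pow_mul, pow_two, hz2, one_pow, one_mul]
      have hr : co.Act ((u * t) ^ (m % (k.val + 1))) M := by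
        have e : w = ((u * t) ^ (k.val + 1)) ^ (m / (k.val + 1)) * (u * t) ^ (m % (k.val + 1)) := by
          rw [← pow_mul, ← pow_add, Nat.div_add_mod, hwd]
        rcases hone (m / (k.val + 1)) with e' | e' <;> rw [e'] at e
        · rw [one_mul] at e; exact e ▸ hMw
        · have := co.act_zmul hMw (Or.inr rfl)
          rw [e, ← mul_assoc, hz2, one_mul] at this
          exact this
      exact co.act_unique (co.act_pow hd _) hr ▸ hM
    · rintro ⟨k, -, hk⟩ hz
      have hP := co.act_pow hd k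
      set X := powA (compA A tA) k
      obtain ⟨w, hw2, hwA, hwz⟩ : ∃ w : G, w * w = 1 ∧ co.Act w X ∧ w * z = z * w := by
        rcases List.mem_append.1 hk with h | h
        · obtain ⟨x, hx, hx2, hxA⟩ := co.s_lift hq0 T hS h
          exact ⟨x, hx2, hxA, mem_centralizer_singleton_iff.1 (hS.S_le_CT T hx).1⟩
        rcases List.mem_cons.1 h with h | h
        · exact ⟨t, ht2, h ▸ hεt, htz⟩
        obtain ⟨M, hM, hMX⟩ := List.mem_map.1 h
        obtain ⟨x, hx, hx2, hxA⟩ := co.s_lift hq0 T hS hM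
        have hxt := (mem_CT.1 (hS.S_le_CT T hx)).2
        refine ⟨t * x, ?_, hMX ▸ co.act_mul hεt hxA, mem_centralizer_singleton_iff.1
          (mul_mem hS.rep.mem_C (hS.S_le_CT T hx).1)⟩
        calc t * x * (t * x) = t * (x * t) * x := by group
          _ = t * t * (x * x) := by rw [hxt]; group
          _ = 1 := by rw [ht2, hx2, one_mul]
      obtain ⟨j, hj2, hjA, hjm⟩ : ∃ j : G, j * j = 1 ∧ co.Act j X ∧ j ∈ zpowers (u * t) := by
        refine ⟨(u * t) ^ k, ?_, hP, pow_mem (mem_zpowers _) k⟩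
        rcases co.act_eq hwA hP with e | e <;> rw [e]
        · exact hw2
        · calc w * z * (w * z) = w * (z * w) * z := by group
            _ = w * w * (z * z) := by rw [← hwz]; group
            _ = 1 := by rw [hw2, hz2, one_mul]
      have hj1 : j ≠ 1 := fun e => hid (co.act_unique (e ▸ hjA) co.act_one ▸ hk)
      obtain ⟨m1, e1, e1'⟩ := pow_half hj2 hj1 hjm
      obtain ⟨m2, e2, e2'⟩ := pow_half hz2 D.pre.gen.ne_one hz
      obtain rfl : m1 = m2 := by omega
      exact hid (co.act_unique ((e1'.trans e2'.symm) ▸ hjA) co.act_z ▸ hk)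
  -- the count
  set L := goodL ε with hL
  have hLmem : ∀ {A}, A ∈ L ↔ A ∈ zImg ∧ isBad tA (compA A tA) = false := fun {A} => by
    rw [hL, goodL, List.mem_filter, Bool.not_eq_true']
  choose lift hlC hl2 hlA hlc hlcz using fun i : Fin L.length => co.exists_lift hq0 (hLmem.1 (L.getElem_mem i.isLt)).1
  have hval : ∀ (i : Fin L.length) (b : Bool), co.Act (lift i * zb z b) (L[i.val]) ∧
      IsConj z (lift i * zb z b) := by
    intro i b
    cases b
    · exact ⟨by simpa [zb] using hlA i, by simpa [zb] using hlc i⟩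
    · refine ⟨?_, hlcz i⟩
      have := co.act_mul (hlA i) co.act_z
      have h2 := co.act_zmul (hlA i) (Or.inr rfl)
      rw [← mem_centralizer_singleton_iff.1 (hlC i)] at h2
      exact h2
  have hg := fun (i : Fin L.length) (b : Bool) =>
    (crit _ _ (hval i b).1.1 (hval i b).2 (hval i b).1 (hLmem.1 (L.getElem_mem i.isLt)).1).2
      (hLmem.1 (L.getElem_mem i.isLt)).2
  let f : Fin L.length × Bool → {u : G // u ∈ centralizer ({z} : Set G) ∧ IsConj z u ∧ z ∈ zpowers (u * t)} :=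
    fun p => ⟨lift p.1 * zb z p.2, (hval p.1 p.2).1.1, (hval p.1 p.2).2, hg p.1 p.2⟩
  have hf : Function.Bijective f := by
    constructor
    · rintro ⟨i, b⟩ ⟨j, b'⟩ e
      have e' : lift i * zb z b = lift j * zb z b' := congrArg Subtype.val e
      have hLn : L.Nodup := zImg_nodup.filter _
      have hij : i = j := Fin.ext ((hLn.getElem_inj_iff).1 (co.act_unique (hval i b).1 (e' ▸ (hval j b').1)))
      subst hij
      have := mul_left_cancel e'
      cases b <;> cases b' <;> simp [zb] at this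
      · rfl
      · exact absurd this.symm D.pre.gen.ne_one
      · exact absurd this D.pre.gen.ne_one
      · rfl
    · rintro ⟨u, hu, huz, hz⟩
      have hne : u ≠ z := by
        intro e
        rw [e] at hz
        have hzt2 : z * t * (z * t) = 1 := by
          calc z * t * (z * t) = z * (t * z) * t := by group
            _ = z * z * (t * t) := by rw [htz]; group
            _ = 1 := by rw [hz2, ht2, one_mul]
        rcases (Extra2.mem_zpowers_iff hzt2).1 hz with h | h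
        · exact D.pre.gen.ne_one h
        · exact hS.t_ne T (mul_eq_left.1 h.symm)
      obtain ⟨A, hA, hAu⟩ := co.class_act hq0 T hS hu (hcls2 huz).1 huz hne
      obtain ⟨i, hi, rfl⟩ := List.getElem_of_mem (hLmem.2 ⟨hA, (crit u A hu huz hAu hA).1 hz⟩)
      rcases co.act_eq (hlA ⟨i, hi⟩) hAu with e | e
      · exact ⟨(⟨i, hi⟩, false), Subtype.ext (by simp [f, zb, e])⟩
      · exact ⟨(⟨i, hi⟩, true), Subtype.ext (by simp [f, zb, e])⟩
  rw [← Nat.card_eq_of_bijective f hf, Nat.card_prod, Nat.card_fin, hlen, Nat.card_eq_fintype_card,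
    Fintype.card_bool]

end CfsgLib.SuzOrder
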