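import Cfsg.Agent.SuzThree.Lift

/-!
Computable coordinates on the extraspecial subgroup and on the automorphisms induced by the centraliser.
-/

set_option autoImplicit false
set_option linter.style.haveILetI false
set_option maxRecDepth 100000

namespace CfsgLib.SuzOrder

open CfsgLib CfsgLib.Quad CfsgLib.SuzInvol CfsgLib.SuzThree Subgroup

/-! ### The computable part -/

/-- The cocycle. -/
def bet (a b : ℕ) : Bool :=
  Bool.xor (a.testBit 4 && b.testBit 4) (Bool.xor (a.testBit 5 && b.testBit 5) (Bool.xor (a.testBit 2 && b.testBit 0)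
    (Bool.xor (a.testBit 3 && b.testBit 1) (a.testBit 5 && b.testBit 4))))

/-- The bit of a code. -/
def hi (x : ℕ) : Bool := decide (64 ≤ x)

/-- A code from a vector and a bit. -/
def mk128 (a : ℕ) (e : Bool) : ℕ := if e then a + 64 else a

/-- The product on codes. -/
def m128 (x y : ℕ) : ℕ :=
  mk128 ((x % 64) ^^^ (y % 64)) (Bool.xor (Bool.xor (hi x) (hi y)) (bet (x % 64) (y % 64)))

/-- The image of the first coordinates. -/
def apK (A : List ℕ) (n : ℕ) : ℕ → ℕ
  | 0 => 0
  | k + 1 => if n.testBit k then m128 (apK A n k) (A.getD k 0) else apK A n k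

/-- The image of a code. -/
def apA (A : List ℕ) (n : ℕ) : ℕ := m128 (apK A n 6) (mk128 0 (hi n))

/-- The composite. -/
def compA (A B : List ℕ) : List ℕ := B.map (apA A)

/-- The identity. -/
def idA : List ℕ := [1, 2, 4, 8, 16, 32]

/-- Inner automorphisms. -/
def inA (m : ℕ) : List ℕ := idA.map fun k => mk128 k (bN (m % 64) k)

/-- A list of six codes. -/
def OkA (A : List ℕ) : Prop := A.length = 6 ∧ ∀ i, i < 6 → A.getD i 0 < 128

theorem mk128_facts (a : ℕ) (ha : a < 64) (e : Bool) :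
    mk128 a e < 128 ∧ mk128 a e % 64 = a ∧ hi (mk128 a e) = e := by
  cases e <;> simp only [mk128, hi, Bool.false_eq_true, if_false, if_true, decide_eq_false_iff_not,
    decide_eq_true_eq] <;> omega

theorem split128 (x : ℕ) (hx : x < 128) : mk128 (x % 64) (hi x) = x := by
  by_cases h : 64 ≤ x <;> simp [mk128, hi, h] <;> omega

theorem m128_lt (x y : ℕ) : m128 x y < 128 :=
  (mk128_facts _ (Nat.xor_lt_two_pow (n := 6) (Nat.mod_lt _ (by norm_num)) (Nat.mod_lt _ (by norm_num))) _).1

/-- The bit picked up by a generator moving to its place. -/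
def bk (a i : ℕ) : ℕ → Bool
  | 0 => false
  | k + 1 => Bool.xor (bk a i k) (a.testBit k && (if i = k then qN (2 ^ k) else decide (i < k) && bN (2 ^ k) (2 ^ i)))

/-- Adding generators one at a time. -/
def addK (a b : ℕ) : ℕ → ℕ × Bool
  | 0 => (a, false)
  | k + 1 => if b.testBit k then ((addK a b k).1 ^^^ 2 ^ k, Bool.xor (addK a b k).2 (bk (addK a b k).1 k 6))
      else addK a b k

theorem addK_six : ∀ a b : Fin 64, addK a.val b.val 6 = (a.val ^^^ b.val, bet a.val b.val) := by decide +kernel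

theorem bk_self : ∀ k : Fin 6, ∀ a : Fin 64, bk a.val k.val k.val = false := by decide +kernel

theorem dual_bits : ∀ δ : Fin 6 → Bool, ∃ m : Fin 64, ∀ i : Fin 6, bN m.val (2 ^ i.val) = δ i := by
  decide +kernel

theorem inA_get : ∀ m : Fin 64, ∀ i : Fin 6,
    (inA m.val).getD i.val 0 = mk128 (2 ^ i.val) (bN m.val (2 ^ i.val)) := by decide +kernel

theorem idA_get : ∀ i : Fin 6, idA.getD i.val 0 = 2 ^ i.val := by decide +kernel

/-! ### The link -/

variable {G : Type*} [Group G] [Finite G] {z : G}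

/-- Lifts of the standard basis. -/
structure Co (D : Dat z) where
  /-- The lifts. -/
  q : ℕ → G
  mem : ∀ i, q i ∈ D.Q
  πq : ∀ i, i < 6 → D.π (q i) = vec (2 ^ i)

theorem exists_co (D : Dat z) {s : G} (hs : s ∈ D.Q) (hπ : D.π s = vec 1) : ∃ co : Co D, co.q 0 = s := by
  choose f hf hfπ using D.π_surj
  refine ⟨⟨fun i => if i = 0 then s else f (vec (2 ^ i)), fun i => ?_, fun i _ => ?_⟩, rfl⟩
  · by_cases h : i = 0
    · simp [h, hs]
    · simp [h, hf]
  · by_cases h : i = 0
    · simp [h, hπ]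
    · simp [h, hfπ]

/-- A power of the central involution. -/
def zb (z : G) (e : Bool) : G := if e then z else 1

variable {D : Dat z} (co : Co D)

/-- The first factors of a coordinate product. -/
def Co.pref (n : ℕ) : ℕ → G
  | 0 => 1
  | k + 1 => if n.testBit k then Co.pref n k * co.q k else Co.pref n k

/-- The element with a given code. -/
def Co.el (n : ℕ) : G := co.pref n 6 * zb z (hi n)

omit [Finite G] in
theorem zb_mul (D : Dat z) (e e' : Bool) : zb z e * zb z e' = zb z (Bool.xor e e') := by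
  cases e <;> cases e' <;> simp [zb, D.pre.gen.sq]

omit [Finite G] in
theorem zb_comm (D : Dat z) (e : Bool) {x : G} (hx : x * z = z * x) : zb z e * x = x * zb z e := by
  cases e <;> simp [zb, hx]

omit [Finite G] in
theorem zb_mem (D : Dat z) (e : Bool) : zb z e ∈ D.Q := by
  cases e
  · exact one_mem _
  · exact D.pre.gen.mem

omit [Finite G] in
theorem Co.qz (i : ℕ) : co.q i * z = z * co.q i := (D.pre.gen.comm_z _ (co.mem i)).eq

omit [Finite G] in
theorem Co.pref_mem (n : ℕ) : ∀ k, co.pref n k ∈ D.Q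
  | 0 => one_mem _
  | k + 1 => by
    rw [Co.pref]
    split
    · exact mul_mem (Co.pref_mem n k) (co.mem k)
    · exact Co.pref_mem n k

omit [Finite G] in
theorem Co.pref_congr {n m : ℕ} : ∀ k, (∀ j, j < k → n.testBit j = m.testBit j) → co.pref n k = co.pref m k
  | 0, _ => rfl
  | k + 1, h => by
    rw [Co.pref, Co.pref, h k (Nat.lt_succ_self k), Co.pref_congr k fun j hj => h j (hj.trans (Nat.lt_succ_self k))]

omit [Finite G] in
/-- Two lifts commute up to the form. -/
theorem comm_code {x y : G} (hx : x ∈ D.Q) (hy : y ∈ D.Q) {a b : ℕ} (ha : a < 64) (hb : b < 64)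
    (ea : D.π x = vec a) (eb : D.π y = vec b) : x * y = y * x * zb z (bN a b) := by
  have hiff := D.comm_iff x hx y hy
  rw [ea, eb, bf_vec ⟨a, ha⟩ ⟨b, hb⟩] at hiff
  cases h : bN a b
  · simp only [h, Bool.false_eq_true, if_false] at hiff
    rw [zb, if_neg (by simp), mul_one]
    exact hiff.2 trivial
  · simp only [h, if_true] at hiff
    rw [zb, if_pos rfl]
    rcases Extra2.conj_eq D.pre.gen hx hy with e | e
    · exact absurd (hiff.1 (mul_inv_eq_iff_eq_mul.1 e)) one_ne_zero
    · calc x * y = x * y * x⁻¹ * x := by group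
        _ = y * z * x := by rw [e, (D.pre.gen.comm_z y hy).eq]
        _ = y * x * z := by rw [mul_assoc, ← (D.pre.gen.comm_z x hx).eq, mul_assoc]

omit [Finite G] in
theorem Co.sq_q {k : ℕ} (hk : k < 6) : co.q k * co.q k = zb z (qN (2 ^ k)) := by
  have hlt : 2 ^ k < 64 := by
    calc 2 ^ k ≤ 2 ^ 5 := Nat.pow_le_pow_right (by norm_num) (by omega)
      _ < 64 := by norm_num
  have hiff := D.sq_iff _ (co.mem k)
  rw [co.πq k hk, vec_facts.2 ⟨_, hlt⟩] at hiff
  cases h : qN (2 ^ k)
  · simp only [h, Bool.false_eq_true, if_false] at hiff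
    rw [hiff.2 trivial]; rfl
  · simp only [h, if_true] at hiff
    exact (D.pre.gen.square _ (co.mem k)).resolve_left fun e => one_ne_zero (hiff.1 e)

omit [Finite G] in
/-- Moving a generator to its place. -/
theorem Co.step : ∀ k, k ≤ 6 → ∀ i, i < k → ∀ a, a < 64 →
    co.pref a k * co.q i = co.pref (a ^^^ 2 ^ i) k * zb z (bk a i k)
  | 0, _, i, h, _, _ => absurd h (Nat.not_lt_zero i)
  | k + 1, hk, i, hi', a, ha => by
    have hz : ∀ e, ∀ {x : G}, x ∈ D.Q → zb z e * x = x * zb z e := fun e {x} hx =>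
      zb_comm D e (D.pre.gen.comm_z x hx).eq
    have hbit : (a ^^^ 2 ^ i).testBit k = Bool.xor (a.testBit k) (decide (i = k)) := by
      rw [Nat.testBit_xor, Nat.testBit_two_pow]
    rcases (Nat.lt_succ_iff.1 hi').lt_or_eq with hlt | rfl
    · rw [Co.pref, Co.pref, bk, hbit, if_neg hlt.ne, decide_eq_false hlt.ne, decide_eq_true hlt, Bool.true_and,
        Bool.xor_false]
      have ih := Co.step k (by omega) i hlt a ha
      cases h : a.testBit k
      · simp only [Bool.false_eq_true, if_false, Bool.false_and, Bool.xor_false]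
        exact ih
      · simp only [if_true, Bool.true_and]
        have hp2 : ∀ j, j < 6 → 2 ^ j < 64 := fun j hj => by
          calc 2 ^ j ≤ 2 ^ 5 := Nat.pow_le_pow_right (by norm_num) (by omega)
            _ < 64 := by norm_num
        rw [mul_assoc, comm_code (co.mem k) (co.mem i) (hp2 k (by omega)) (hp2 i (by omega))
          (co.πq k (by omega)) (co.πq i (by omega))]
        calc co.pref a k * (co.q i * co.q k * zb z (bN (2 ^ k) (2 ^ i)))
            = co.pref a k * co.q i * co.q k * zb z (bN (2 ^ k) (2 ^ i)) := by group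
          _ = co.pref (a ^^^ 2 ^ i) k * (zb z (bk a i k) * co.q k) * zb z (bN (2 ^ k) (2 ^ i)) := by
            rw [ih]; group
          _ = co.pref (a ^^^ 2 ^ i) k * co.q k * (zb z (bk a i k) * zb z (bN (2 ^ k) (2 ^ i))) := by
            rw [hz _ (co.mem k)]; group
          _ = _ := by rw [zb_mul D]
    · rw [Co.pref, Co.pref, bk, hbit, if_pos rfl, decide_eq_true rfl, bk_self ⟨i, by omega⟩ ⟨a, ha⟩,
        Bool.xor_true]
      have hc : co.pref (a ^^^ 2 ^ i) i = co.pref a i := co.pref_congr i fun j hj => by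
        rw [Nat.testBit_xor, Nat.testBit_two_pow, decide_eq_false (by omega), Bool.xor_false]
      rw [hc, Bool.false_xor]
      cases h : a.testBit i
      · simp only [Bool.false_eq_true, if_false, Bool.not_false, if_true, Bool.false_and]
        exact (mul_one _).symm
      · simp only [if_true, Bool.not_true, Bool.false_eq_true, if_false, Bool.true_and]
        rw [mul_assoc, co.sq_q (by omega)]

omit [Finite G] in
theorem Co.add : ∀ k, k ≤ 6 → ∀ a b, a < 64 →
    co.pref a 6 * co.pref b k = co.pref (addK a b k).1 6 * zb z (addK a b k).2 ∧ (addK a b k).1 < 64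
  | 0, _, a, b, ha => ⟨by simp [Co.pref, addK, zb], ha⟩
  | k + 1, hk, a, b, ha => by
    obtain ⟨ih, hlt⟩ := Co.add k (by omega) a b ha
    rw [show co.pref b (k + 1) = (if b.testBit k then co.pref b k * co.q k else co.pref b k) from rfl, addK]
    cases h : b.testBit k
    · simp only [Bool.false_eq_true, if_false]
      exact ⟨ih, hlt⟩
    · simp only [if_true]
      refine ⟨?_, Nat.xor_lt_two_pow (n := 6) hlt (Nat.pow_lt_pow_right (by norm_num) (by omega))⟩
      calc co.pref a 6 * (co.pref b k * co.q k) = co.pref a 6 * co.pref b k * co.q k := by group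
        _ = co.pref (addK a b k).1 6 * (zb z (addK a b k).2 * co.q k) := by rw [ih]; group
        _ = co.pref (addK a b k).1 6 * co.q k * zb z (addK a b k).2 := by
          rw [zb_comm D _ (co.qz k)]; group
        _ = co.pref ((addK a b k).1 ^^^ 2 ^ k) 6 *
            (zb z (bk (addK a b k).1 k 6) * zb z (addK a b k).2) := by
          rw [co.step 6 le_rfl k (by omega) _ hlt]; group
        _ = _ := by rw [zb_mul D, Bool.xor_comm]

omit [Finite G] in
theorem Co.el_mem (n : ℕ) : co.el n ∈ D.Q := mul_mem (co.pref_mem n 6) (zb_mem D _)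

omit [Finite G] in
theorem Co.el_z (n : ℕ) : co.el n * z = z * co.el n := (D.pre.gen.comm_z _ (co.el_mem n)).eq

omit [Finite G] in
theorem Co.el_mk {a : ℕ} (ha : a < 64) (e : Bool) : co.el (mk128 a e) = co.pref a 6 * zb z e := by
  obtain ⟨-, h2, h3⟩ := mk128_facts a ha e
  rw [Co.el, h3]
  congr 1
  refine co.pref_congr 6 fun j hj => ?_
  conv_rhs => rw [← h2]
  rw [show 64 = 2 ^ 6 from rfl, Nat.testBit_mod_two_pow, decide_eq_true hj, Bool.true_and]

omit [Finite G] in
theorem Co.el_split (x : ℕ) : co.el x = co.pref (x % 64) 6 * zb z (hi x) := by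
  rw [Co.el]
  congr 1
  refine co.pref_congr 6 fun j hj => ?_
  rw [show 64 = 2 ^ 6 from rfl, Nat.testBit_mod_two_pow, decide_eq_true hj, Bool.true_and]

omit [Finite G] in
/-- The product in coordinates. -/
theorem Co.el_mul (x y : ℕ) : co.el x * co.el y = co.el (m128 x y) := by
  have ha : x % 64 < 64 := Nat.mod_lt _ (by norm_num)
  have hb : y % 64 < 64 := Nat.mod_lt _ (by norm_num)
  obtain ⟨h1, -⟩ := co.add 6 le_rfl _ (y % 64) ha
  rw [addK_six ⟨_, ha⟩ ⟨_, hb⟩] at h1
  rw [m128, co.el_mk (Nat.xor_lt_two_pow (n := 6) ha hb), co.el_split x, co.el_split y]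
  calc co.pref (x % 64) 6 * zb z (hi x) * (co.pref (y % 64) 6 * zb z (hi y))
      = co.pref (x % 64) 6 * (zb z (hi x) * co.pref (y % 64) 6) * zb z (hi y) := by group
    _ = co.pref (x % 64) 6 * co.pref (y % 64) 6 * (zb z (hi x) * zb z (hi y)) := by
      rw [zb_comm D _ (D.pre.gen.comm_z _ (co.pref_mem _ _)).eq]; group
    _ = _ := by
      rw [h1, zb_mul D, mul_assoc, zb_mul D, Bool.xor_comm (bet _ _)]

omit [Finite G] in
theorem Co.π_pref (n : ℕ) : ∀ k, k ≤ 6 → D.π (co.pref n k) = vec (n % 2 ^ k)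
  | 0, _ => by rw [Co.pref, π_one, pow_zero, Nat.mod_one]; decide +kernel
  | k + 1, hk => by
    have ih := Co.π_pref n k (by omega)
    have hl1 : n % 2 ^ k < 64 := lt_of_lt_of_le (Nat.mod_lt _ (by positivity))
      (show 2 ^ k ≤ 2 ^ 6 from Nat.pow_le_pow_right (by norm_num) (by omega))
    have hl2 : 2 ^ k < 64 := (Nat.pow_lt_pow_right (by norm_num) (by omega) : 2 ^ k < 2 ^ 6)
    rw [Co.pref]
    cases h : n.testBit k
    · simp only [Bool.false_eq_true, if_false, ih]
      congr 1
      refine Nat.eq_of_testBit_eq fun j => ?_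
      rw [Nat.testBit_mod_two_pow, Nat.testBit_mod_two_pow]
      rcases lt_trichotomy j k with hj | rfl | hj
      · rw [decide_eq_true hj, decide_eq_true (by omega)]
      · simp [h]
      · rw [decide_eq_false (by omega), decide_eq_false (by omega)]
    · simp only [if_true]
      rw [D.π_mul _ (co.pref_mem n k) _ (co.mem k), ih, co.πq k (by omega)]
      refine (vec_add ⟨_, hl1⟩ ⟨_, hl2⟩).trans (congrArg vec ?_)
      refine Nat.eq_of_testBit_eq fun j => ?_
      rw [Nat.testBit_xor, Nat.testBit_mod_two_pow, Nat.testBit_mod_two_pow, Nat.testBit_two_pow]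
      rcases lt_trichotomy j k with hj | rfl | hj
      · rw [decide_eq_true hj, decide_eq_true (by omega : j < k + 1), decide_eq_false hj.ne']
        simp
      · simp [h]
      · rw [decide_eq_false (by omega), decide_eq_false (by omega : ¬ j < k + 1), decide_eq_false hj.ne]
        simp

omit [Finite G] in
theorem Co.π_el (n : ℕ) : D.π (co.el n) = vec (n % 64) := by
  rw [Co.el, D.π_mul _ (co.pref_mem n 6) _ (zb_mem D _), co.π_pref n 6 le_rfl]
  have : D.π (zb z (hi n)) = 0 := by
    cases hi n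
    · exact π_one D
    · exact π_z D
  rw [this, add_zero]
  norm_num

omit [Finite G] in
theorem Co.el_inj {x y : ℕ} (hx : x < 128) (hy : y < 128) (h : co.el x = co.el y) : x = y := by
  have h1 := congrArg D.π h
  rw [co.π_el, co.π_el] at h1
  have e := vec_inj (Nat.mod_lt _ (by norm_num)) (Nat.mod_lt _ (by norm_num)) h1
  rw [co.el_split x, co.el_split y, e, mul_left_cancel_iff] at h
  have h2 : hi x = hi y := by
    cases hxb : hi x <;> cases hyb : hi y <;> simp [zb, hxb, hyb] at h
    · rfl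
    · exact absurd h.symm D.pre.gen.ne_one
    · exact absurd h D.pre.gen.ne_one
    · rfl
  rw [← split128 x hx, ← split128 y hy, e, h2]

omit [Finite G] in
theorem Co.el_surj {x : G} (hx : x ∈ D.Q) : ∃ n < 128, co.el n = x := by
  obtain ⟨a, ha, e⟩ := exists_code (D.π x)
  rcases eq_of_π D (co.pref_mem a 6) hx (by rw [co.π_pref a 6 le_rfl, Nat.mod_eq_of_lt (by simpa using ha)]; exact e) with h | h
  · exact ⟨mk128 a false, (mk128_facts a ha _).1, by rw [co.el_mk ha, zb]; simp [h]⟩
  · exact ⟨mk128 a true, (mk128_facts a ha _).1, by rw [co.el_mk ha, zb]; simp [h]⟩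

omit [Finite G] in
theorem Co.el_basis : ∀ i, i < 6 → co.el (2 ^ i) = co.q i := by
  intro i hi'
  rcases i with _ | _ | _ | _ | _ | _ | i <;>
    simp [Co.el, Co.pref, hi, zb, Nat.testBit_succ, Nat.testBit_zero] <;> omega

omit [Finite G] in
theorem Co.el_sixty : co.el 64 = z ∧ co.el 0 = 1 := by
  constructor <;> simp [Co.el, Co.pref, hi, zb, Nat.testBit_succ, Nat.testBit_zero]

/-- The automorphism induced by an element. -/
def Co.Act (x : G) (A : List ℕ) : Prop :=
  x ∈ centralizer ({z} : Set G) ∧ OkA A ∧ ∀ i, i < 6 → x * co.q i * x⁻¹ = co.el (A.getD i 0)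

omit [Finite G] in
theorem Co.apK_spec {x : G} {A : List ℕ} (h : co.Act x A) (n : ℕ) : ∀ k, k ≤ 6 →
    x * co.pref n k * x⁻¹ = co.el (apK A n k) ∧ apK A n k < 128
  | 0, _ => by simp [Co.pref, apK, co.el_sixty.2]
  | k + 1, hk => by
    obtain ⟨ih, hlt⟩ := Co.apK_spec h n k (by omega)
    rw [Co.pref, apK]
    cases hb : n.testBit k
    · simpa using ⟨ih, hlt⟩
    · simp only [if_true]
      refine ⟨?_, m128_lt _ _⟩
      rw [← co.el_mul, ← ih, ← h.2.2 k (by omega)]
      group

omit [Finite G] in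
theorem Co.act_el {x : G} {A : List ℕ} (h : co.Act x A) (n : ℕ) :
    x * co.el n * x⁻¹ = co.el (apA A n) ∧ apA A n < 128 := by
  refine ⟨?_, m128_lt _ _⟩
  obtain ⟨ih, -⟩ := co.apK_spec h n 6 le_rfl
  have hxz : ∀ e, x * zb z e * x⁻¹ = zb z e := fun e => by
    rw [← zb_comm D e (mem_centralizer_singleton_iff.1 h.1), mul_inv_cancel_right]
  rw [apA, ← co.el_mul, ← ih, co.el_mk (by norm_num : 0 < 64), Co.el, show co.pref 0 6 = 1 from by
    simp [Co.pref], one_mul]
  calc x * (co.pref n 6 * zb z (hi n)) * x⁻¹ = x * co.pref n 6 * x⁻¹ * (x * zb z (hi n) * x⁻¹) := by group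
    _ = _ := by rw [hxz]

omit [Finite G] in
theorem Co.act_mul {x x' : G} {A B : List ℕ} (h : co.Act x A) (h' : co.Act x' B) :
    co.Act (x * x') (compA A B) := by
  have hlen : ∀ i, i < 6 → (compA A B).getD i 0 = apA A (B.getD i 0) := by
    intro i hi'
    rw [compA, List.getD_eq_getElem _ _ (by simp [h'.2.1.1, hi']), List.getElem_map,
      List.getD_eq_getElem _ _ (by rw [h'.2.1.1]; exact hi')]
  refine ⟨mul_mem h.1 h'.1, ⟨by simp [compA, h'.2.1.1], fun i hi' => ?_⟩, fun i hi' => ?_⟩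
  · rw [hlen i hi']; exact (co.act_el h _).2
  · rw [hlen i hi', ← (co.act_el h _).1, ← h'.2.2 i hi']
    group

omit [Finite G] in
theorem Co.act_one : co.Act 1 idA := by
  refine ⟨one_mem _, ⟨rfl, fun i hi' => ?_⟩, fun i hi' => ?_⟩ <;> rw [idA_get ⟨i, hi'⟩]
  · calc 2 ^ i ≤ 2 ^ 5 := Nat.pow_le_pow_right (by norm_num) (by omega)
      _ < 128 := by norm_num
  · rw [co.el_basis i hi']; group

omit [Finite G] in
theorem Co.act_unique {x : G} {A B : List ℕ} (h : co.Act x A) (h' : co.Act x B) : A = B := by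
  refine List.ext_getElem (h.2.1.1.trans h'.2.1.1.symm) fun i hi1 hi2 => ?_
  have hi' : i < 6 := by rw [← h.2.1.1]; exact hi1
  have e := co.el_inj (h.2.1.2 i hi') (h'.2.1.2 i hi') ((h.2.2 i hi').symm.trans (h'.2.2 i hi'))
  rwa [List.getD_eq_getElem _ _ hi1, List.getD_eq_getElem _ _ hi2] at e

omit [Finite G] in
theorem Co.exists_act {x : G} (hx : x ∈ centralizer ({z} : Set G)) : ∃ A, co.Act x A := by
  choose f hf hfe using fun i => co.el_surj (conj_mem_Q D hx (co.mem i))
  have hg : ∀ i, i < 6 → ((List.range 6).map f).getD i 0 = f i := fun i hi' => by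
    rw [List.getD_eq_getElem _ _ (by simp [hi']), List.getElem_map, List.getElem_range]
  exact ⟨(List.range 6).map f, hx, ⟨by simp, fun i hi' => by rw [hg i hi']; exact hf i⟩,
    fun i hi' => by rw [hg i hi', hfe]⟩

omit [Finite G] in
theorem Co.act_lin {x : G} {A : List ℕ} (h : co.Act x A) {i : ℕ} (hi' : i < 6) :
    (actG D x).1 (vec (2 ^ i)) = vec (A.getD i 0 % 64) := by
  rw [← co.πq i hi', ← actG_π D h.1 (co.mem i), h.2.2 i hi', co.π_el]

omit [Finite G] in
/-- Elements inducing the identity. -/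
theorem Co.act_id {x : G} (h : co.Act x idA) : x = 1 ∨ x = z := by
  have hfix : ∀ n, x * co.el n * x⁻¹ = co.el n := by
    intro n
    have h1 := (co.act_el h n).1
    rw [h1, ← (co.act_el co.act_one n).1]
    group
  have hc : ∀ q ∈ D.Q, Commute x q := fun q hq => by
    obtain ⟨n, -, rfl⟩ := co.el_surj hq
    exact mul_inv_eq_iff_eq_mul.1 (hfix n)
  exact D.pre.gen.center_iff x (D.pre.self (mem_centralizer_iff.2 fun q hq => (hc q hq).symm.eq)) hc

omit [Finite G] in
theorem Co.act_inner {m : ℕ} (hm : m < 128) : co.Act (co.el m) (inA m) := by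
  have hm' : m % 64 < 64 := Nat.mod_lt _ (by norm_num)
  have hin : inA m = inA (m % 64) := by simp [inA, Nat.mod_mod]
  have h2 : ∀ i, i < 6 → 2 ^ i < 64 := fun i hi' => Nat.pow_lt_pow_right (by norm_num) hi'
  refine ⟨SuzInvol.mem_C D (co.el_mem m), ⟨by simp [inA, idA], fun i hi' => ?_⟩, fun i hi' => ?_⟩ <;>
    rw [hin, inA_get ⟨_, hm'⟩ ⟨i, hi'⟩]
  · exact (mk128_facts _ (h2 i hi') _).1
  · rw [co.el_mk (h2 i hi'), show co.pref (2 ^ i) 6 = co.q i by
      have := co.el_basis i hi'
      rwa [Co.el, show hi (2 ^ i) = false from decide_eq_false (by have := h2 i hi'; omega), zb, if_neg (by simp),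
        mul_one] at this,
      comm_code (co.el_mem m) (co.mem i) hm' (h2 i hi') (co.π_el m) (co.πq i hi')]
    rw [mul_assoc, zb_comm D _ (inv_mul_eq_iff_eq_mul.2 (by
      rw [← mul_assoc, co.el_z, mul_inv_cancel_right]) |> fun e => e) ]
    group

omit [Finite G] in
/-- Any list over an element of the orthogonal group is realised. -/
theorem Co.realise {h : O6} (hh : h ∈ commutator (oGroup q6)) {A : List ℕ} (hA : OkA A)
    (hlin : ∀ i, i < 6 → h.1 (vec (2 ^ i)) = vec (A.getD i 0 % 64)) :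
    ∃ c, co.Act c A ∧ actG D c = h := by
  obtain ⟨c₀, hc₀, hc₀e⟩ : ∃ c ∈ centralizer ({z} : Set G), actG D c = h := by
    obtain ⟨c, hc⟩ := D.act_surj h hh
    exact ⟨c, c.2, by rw [actG_eq D c.2]; exact hc⟩
  obtain ⟨A₀, h₀⟩ := co.exists_act hc₀
  obtain ⟨⟨m, hm⟩, hmb⟩ := dual_bits fun i => Bool.xor (hi (A₀.getD i.val 0)) (hi (A.getD i.val 0))
  have hmC : co.el m ∈ centralizer ({z} : Set G) := SuzInvol.mem_C D (co.el_mem m)
  refine ⟨c₀ * co.el m, ⟨mul_mem hc₀ hmC, hA, fun i hi' => ?_⟩, by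
    rw [actG_mul D hc₀ hmC, actG_Q D (co.el_mem m), mul_one, hc₀e]⟩
  have h2 : 2 ^ i < 64 := Nat.pow_lt_pow_right (by norm_num) hi'
  have hq : co.el m * co.q i * (co.el m)⁻¹ = co.q i * zb z (bN m (2 ^ i)) := by
    rw [mul_inv_eq_iff_eq_mul, comm_code (co.el_mem m) (co.mem i) hm h2 (by rw [co.π_el, Nat.mod_eq_of_lt hm])
      (co.πq i hi'), mul_assoc (co.q i) (zb z _), zb_comm D _ (co.el_z m), mul_assoc]
  calc c₀ * co.el m * co.q i * (c₀ * co.el m)⁻¹ = c₀ * (co.el m * co.q i * (co.el m)⁻¹) * c₀⁻¹ := by group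
    _ = c₀ * co.q i * c₀⁻¹ * (c₀ * zb z (bN m (2 ^ i)) * c₀⁻¹) := by rw [hq]; group
    _ = co.el (A₀.getD i 0) * zb z (bN m (2 ^ i)) := by
      rw [h₀.2.2 i hi', ← zb_comm D _ (mem_centralizer_singleton_iff.1 hc₀), mul_inv_cancel_right]
    _ = co.el (A.getD i 0) := by
      have e : A₀.getD i 0 % 64 = A.getD i 0 % 64 := by
        refine vec_inj (Nat.mod_lt _ (by norm_num)) (Nat.mod_lt _ (by norm_num)) ?_
        rw [← co.act_lin h₀ hi', hc₀e, hlin i hi']
      have hb : bN m (2 ^ i) = Bool.xor (hi (A₀.getD i 0)) (hi (A.getD i 0)) := hmb ⟨i, hi'⟩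
      rw [co.el_split (A₀.getD i 0), co.el_split (A.getD i 0), e, hb, mul_assoc, zb_mul D]
      congr 2
      cases hi (A₀.getD i 0) <;> cases hi (A.getD i 0) <;> rfl

end CfsgLib.SuzOrder
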